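import Mathlib

/-! # Purely inseparable extensions of prime degree -/

set_option autoImplicit false
set_option linter.style.haveILetI false

namespace Groth.Agent.Lib.Helper18.Epp

open Polynomial IntermediateField

universe u

variable {L M : Type*} [Field L] [Field M] [Algebra L M] {p : ℕ}

theorem finiteDimensional_of_finrank_prime (hp : p.Prime) (hdeg : Module.finrank L M = p) :
    FiniteDimensional L M :=
  Module.finite_of_finrank_pos (by rw [hdeg]; exact hp.pos)

/-- A purely inseparable extension of prime degree `p` lives in characteristic `p`. -/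
theorem charP_of_purelyInsep [IsPurelyInseparable L M] (hp : p.Prime)
    (hdeg : Module.finrank L M = p) : CharP L p := by
  haveI := finiteDimensional_of_finrank_prime hp hdeg
  obtain ⟨q, hq⟩ := ExpChar.exists L
  obtain ⟨n, hn⟩ := IsPurelyInseparable.finrank_eq_pow (F := L) M q
  rw [hdeg] at hn
  cases hq with
  | zero =>
    rw [one_pow] at hn
    exact absurd hn hp.one_lt.ne'
  | prime hq' =>
    have hn0 : n ≠ 0 := by
      rintro rfl
      rw [pow_zero] at hn
      exact hp.one_lt.ne' hn
    have hdvd : q ∣ p := by rw [hn]; exact dvd_pow_self q hn0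
    have : q = p := (Nat.prime_dvd_prime_iff_eq hq' hp).mp hdvd
    subst this
    infer_instance

/-- In a purely inseparable extension of prime degree `p`, `p`-th powers land in the base. -/
theorem pow_mem_range [IsPurelyInseparable L M] (hp : p.Prime) (hdeg : Module.finrank L M = p)
    (x : M) : x ^ p ∈ Set.range (algebraMap L M) := by
  haveI := finiteDimensional_of_finrank_prime hp hdeg
  haveI := charP_of_purelyInsep hp hdeg
  haveI : ExpChar L p := ExpChar.prime hp
  obtain ⟨n, y, hmin⟩ := IsPurelyInseparable.minpoly_eq_X_pow_sub_C L p x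
  have hdeg' : (minpoly L x).natDegree ≤ p := by
    rw [← hdeg]; exact minpoly.natDegree_le x
  rw [hmin, natDegree_sub_C, natDegree_X_pow] at hdeg'
  have hroot : aeval x (minpoly L x) = 0 := minpoly.aeval L x
  rw [hmin, map_sub, map_pow, aeval_X, aeval_C, sub_eq_zero] at hroot
  have hn : n ≤ 1 := by
    by_contra hlt
    rw [not_le] at hlt
    have : p ^ 2 ≤ p ^ n := Nat.pow_le_pow_right hp.pos hlt
    have h2 : p < p ^ 2 := by
      calc p = p ^ 1 := (pow_one p).symm
        _ < p ^ 2 := Nat.pow_lt_pow_right hp.one_lt (by norm_num)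
    omega
  interval_cases n
  · rw [pow_zero, pow_one] at hroot
    exact ⟨y ^ p, by rw [map_pow, hroot]⟩
  · rw [pow_one] at hroot
    exact ⟨y, hroot.symm⟩

end Groth.Agent.Lib.Helper18.Epp
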