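import Mathlib
import Groth.Prelude.Def_EtRam
import Groth.Agent.Lib.Helper18.Epp.Field

/-! # A purely inseparable degree `p` step `B ⊂ C` over a weakly unramified `A ⊂ B` -/

set_option autoImplicit false
set_option linter.style.haveILetI false

namespace Groth.Agent.Lib.Helper18.Epp

open Polynomial IsLocalRing

universe u

section Inter

variable {B C L M : Type*} [CommRing B] [IsDomain B] [ValuationRing B] [IsLocalRing B]
  [CommRing C] [IsLocalRing C]
  [Algebra B C] [IsLocalHom (algebraMap B C)]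
  [Field L] [Field M] [Algebra B L] [IsFractionRing B L] [Algebra C M]
  [Algebra L M] [Algebra B M] [IsScalarTower B L M] [IsScalarTower B C M]

/-- `C ∩ L = B`. -/
theorem mem_range_of_mem_range (hCM : Function.Injective (algebraMap C M)) (x : L) (c : C)
    (h : algebraMap L M x = algebraMap C M c) : ∃ b : B, algebraMap B L b = x := by
  by_cases hx0 : x = 0
  · exact ⟨0, by rw [map_zero, hx0]⟩
  rcases ValuationRing.isInteger_or_isInteger B x with ⟨b, hb⟩ | ⟨b, hb⟩
  · exact ⟨b, hb⟩
  · by_cases hbu : IsUnit b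
    · obtain ⟨bu, rfl⟩ := hbu
      refine ⟨((bu⁻¹ : Bˣ) : B), ?_⟩
      have h1 : algebraMap B L ((bu⁻¹ : Bˣ) : B) * algebraMap B L (bu : B) = 1 := by
        rw [← map_mul, Units.inv_mul, map_one]
      rw [hb] at h1
      rw [eq_inv_of_mul_eq_one_left h1, inv_inv]
    · exfalso
      have hbC : ¬ IsUnit (algebraMap B C b) := fun hu => hbu (isUnit_of_map_unit _ _ hu)
      apply hbC
      have h2 : algebraMap C M (c * algebraMap B C b) = 1 := by
        rw [map_mul, ← h, ← IsScalarTower.algebraMap_apply B C M,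
          IsScalarTower.algebraMap_apply B L M, hb, map_inv₀,
          mul_inv_cancel₀ ((_root_.map_ne_zero _).mpr hx0)]
      have h3 : c * algebraMap B C b = 1 := hCM (h2.trans (map_one _).symm)
      exact IsUnit.of_mul_eq_one _ (by rw [mul_comm]; exact h3)

end Inter

section Step

variable {p : ℕ} {A B C K L M : Type u}
  [CommRing A] [IsDomain A] [IsDiscreteValuationRing A] [CommRing B] [IsDomain B]
  [IsDiscreteValuationRing B] [CommRing C] [IsDomain C] [IsDiscreteValuationRing C]
  [Algebra A B] [Algebra B C] [Algebra A C] [IsScalarTower A B C]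
  [IsLocalHom (algebraMap A B)] [IsLocalHom (algebraMap B C)]
  [Field L] [Field M] [Algebra B L] [IsFractionRing B L]
  [Algebra C M] [IsFractionRing C M] [Algebra L M]
  [Algebra B M] [IsScalarTower B L M] [IsScalarTower B C M]

theorem uniformizer_B {π : A} (hπ : maximalIdeal A = Ideal.span {π})
    (hw : EtRam.IsWeaklyUnramified A B) : maximalIdeal B = Ideal.span {algebraMap A B π} := by
  rw [← hw, hπ, Ideal.map_span, Set.image_singleton]

/-- If `A → C` is not weakly unramified then a uniformizer `ϖ` of `C` satisfies `ϖ ^ p = u π` with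
`u` a unit of `B`. -/
theorem exists_unit_pow (hp : p.Prime) (hAB : Function.Injective (algebraMap A B))
    (hBC : Function.Injective (algebraMap B C)) {π : A} (hπ : maximalIdeal A = Ideal.span {π})
    (hw : EtRam.IsWeaklyUnramified A B) [IsPurelyInseparable L M]
    (hdeg : Module.finrank L M = p) (hnw : ¬ EtRam.IsWeaklyUnramified A C) :
    ∃ (ϖ : C) (u : Bˣ), Irreducible ϖ ∧ ϖ ^ p = algebraMap B C u * algebraMap A C π := by
  have hπirr : Irreducible π := (IsDiscreteValuationRing.irreducible_iff_uniformizer π).mpr hπ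
  have hπB := uniformizer_B hπ hw
  have hπBirr : Irreducible (algebraMap A B π) :=
    (IsDiscreteValuationRing.irreducible_iff_uniformizer _).mpr hπB
  obtain ⟨ϖ, hϖ⟩ := IsDiscreteValuationRing.exists_irreducible C
  have hCM : Function.Injective (algebraMap C M) := IsFractionRing.injective C M
  set a : C := algebraMap A C π with ha
  have haB : a = algebraMap B C (algebraMap A B π) := IsScalarTower.algebraMap_apply A B C π
  have ha0 : a ≠ 0 := by
    rw [haB]
    intro h0
    have h1 : algebraMap A B π = 0 := hBC (h0.trans (map_zero _).symm)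
    have h2 : π = 0 := hAB (h1.trans (map_zero _).symm)
    exact hπirr.ne_zero h2
  obtain ⟨e, v, hev⟩ := IsDiscreteValuationRing.eq_unit_mul_pow_irreducible ha0 hϖ
  -- `e ≠ 1`
  have he1 : e ≠ 1 := by
    rintro rfl
    apply hnw
    show Ideal.map (algebraMap A C) (maximalIdeal A) = maximalIdeal C
    rw [hπ, Ideal.map_span, Set.image_singleton, hϖ.maximalIdeal_eq, ← ha, hev, pow_one]
    exact Ideal.span_singleton_eq_span_singleton.mpr
      (associated_unit_mul_left _ _ v.isUnit)
  -- `ϖ ^ p` lies in `B`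
  obtain ⟨x, hx⟩ := pow_mem_range (L := L) hp hdeg (algebraMap C M ϖ)
  rw [← map_pow] at hx
  obtain ⟨β, hβ⟩ := mem_range_of_mem_range (B := B) hCM x (ϖ ^ p) hx
  have hβC : algebraMap B C β = ϖ ^ p := by
    apply hCM
    rw [← IsScalarTower.algebraMap_apply, IsScalarTower.algebraMap_apply B L M, hβ, hx]
  have hβ0 : β ≠ 0 := by
    intro h0
    rw [h0, map_zero] at hβC
    exact pow_ne_zero p hϖ.ne_zero hβC.symm
  obtain ⟨j, u₀, hj⟩ := IsDiscreteValuationRing.eq_unit_mul_pow_irreducible hβ0 hπBirr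
  have hu₀C : IsUnit (algebraMap B C (u₀ : B)) := u₀.isUnit.map _
  have hkey : ((1 : Cˣ) : C) * ϖ ^ p = ((hu₀C.unit * v ^ j : Cˣ) : C) * ϖ ^ (e * j) := by
    rw [Units.val_one, one_mul, ← hβC, hj, map_mul, map_pow, ← haB, hev, Units.val_mul,
      IsUnit.unit_spec, Units.val_pow_eq_pow_val, mul_pow, ← pow_mul]
    ring
  have hpej : p = e * j := IsDiscreteValuationRing.unit_mul_pow_congr_pow hϖ hϖ _ _ _ _ hkey
  have hep : e = p := by
    have hdvd : e ∣ p := ⟨j, hpej⟩
    rcases (Nat.dvd_prime hp).mp hdvd with h1 | h1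
    · exact absurd h1 he1
    · exact h1
  have hj1 : j = 1 := by
    rw [hep] at hpej
    have : p * 1 = p * j := by rw [mul_one]; exact hpej
    exact (Nat.eq_of_mul_eq_mul_left hp.pos this).symm
  refine ⟨ϖ, u₀, hϖ, ?_⟩
  rw [← hβC, hj, hj1, pow_one, map_mul, ← haB]

end Step

/-- The expansion dichotomy for a unit `u` of `B`. -/
theorem expansion_dichotomy {B : Type*} [CommRing B] [IsLocalRing B] (p : ℕ) (ϖ u : B)
    (hϖ : maximalIdeal B = Ideal.span {ϖ}) :
    (∃ (m : ℕ) (f : ℕ → B) (b : B), u = ∑ i ∈ Finset.range m, f i ^ p * ϖ ^ i + b * ϖ ^ m ∧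
        ∀ r : B, residue B b ≠ residue B r ^ p) ∨
      ∀ m : ℕ, ∃ (f : ℕ → B) (b : B), u = ∑ i ∈ Finset.range m, f i ^ p * ϖ ^ i + b * ϖ ^ m := by
  by_cases hgood : ∃ (m : ℕ) (f : ℕ → B) (b : B),
      u = ∑ i ∈ Finset.range m, f i ^ p * ϖ ^ i + b * ϖ ^ m ∧
        ∀ r : B, residue B b ≠ residue B r ^ p
  · exact Or.inl hgood
  right
  intro m
  induction m with
  | zero => exact ⟨fun _ => 0, u, by simp⟩
  | succ m ih =>
    obtain ⟨f, b, hfb⟩ := ih
    have : ∃ r : B, residue B b = residue B r ^ p := by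
      by_contra hno
      push_neg at hno
      exact hgood ⟨m, f, b, hfb, hno⟩
    obtain ⟨r, hr⟩ := this
    have hmem : b - r ^ p ∈ maximalIdeal B := by
      rw [← residue_eq_zero_iff, map_sub, map_pow, hr, sub_self]
    rw [hϖ, Ideal.mem_span_singleton] at hmem
    obtain ⟨b', hb'⟩ := hmem
    refine ⟨fun i => if i = m then r else f i, b', ?_⟩
    simp only []
    rw [Finset.sum_range_succ, if_pos rfl]
    have hsum : ∑ i ∈ Finset.range m, (if i = m then r else f i) ^ p * ϖ ^ i =
        ∑ i ∈ Finset.range m, f i ^ p * ϖ ^ i := by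
      refine Finset.sum_congr rfl fun i hi => ?_
      rw [if_neg (Finset.mem_range.mp hi).ne]
    rw [hsum, hfb]
    have : b = r ^ p + ϖ * b' := by rw [← hb']; ring
    rw [this, pow_succ]
    ring

end Groth.Agent.Lib.Helper18.Epp
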