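import Mathlib
import Groth.Agent.Lib.Helper18.Eis.Construct

/-! # The Eisenstein polynomial stays irreducible over a purely inseparable extension -/

set_option autoImplicit false
set_option linter.style.haveILetI false

namespace Groth.Agent.Lib.Helper18.Epp

open Polynomial IsLocalRing
open Groth.Agent.Lib.Helper18.Eis

universe u

variable {B L M : Type u} [CommRing B] [IsDomain B] [IsDiscreteValuationRing B] [Field L]
  [Field M] [Algebra B L] [IsFractionRing B L] [Algebra L M] [Algebra B M] [IsScalarTower B L M]

theorem eisPoly_map {A : Type u} [CommRing A] [IsDomain A] [IsDiscreteValuationRing A]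
    {R : Type*} [CommRing R] (φ : A →+* R) (π : A) (n q : ℕ) :
    (eisPoly π n q).map φ = X ^ q + (C (φ π ^ n) * X - C (φ π)) := by
  simp [eisPoly]

theorem eisPoly_map_irreducible (πB : B) (hπB : maximalIdeal B = Ideal.span {πB})
    [IsPurelyInseparable L M] {n : ℕ} (hn : 1 < n) {q : ℕ} (hq : 2 ≤ q) :
    Irreducible ((eisPoly πB n q).map (algebraMap B M)) := by
  have hπirr : Irreducible πB := (IsDiscreteValuationRing.irreducible_iff_uniformizer πB).mpr hπB
  have hmonB : (eisPoly πB n q).Monic := eisPoly_monic πB n hq
  have hirrB : Irreducible (eisPoly πB n q) := eisPoly_irreducible πB hπB hn hq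
  have hirrL : Irreducible ((eisPoly πB n q).map (algebraMap B L)) :=
    (Monic.irreducible_iff_irreducible_map_fraction_map hmonB).mp hirrB
  have hder : derivative ((eisPoly πB n q).map (algebraMap B L)) ≠ 0 := by
    intro h0
    have h1 : (derivative ((eisPoly πB n q).map (algebraMap B L))).coeff 0 = 0 := by
      rw [h0, coeff_zero]
    rw [coeff_derivative, coeff_map, eisPoly_coeff πB n 1 (by omega), if_pos rfl,
      if_neg one_ne_zero, sub_zero, Nat.cast_zero, zero_add, mul_one] at h1
    have h2 : πB ^ n = 0 := IsFractionRing.injective B L (h1.trans (map_zero _).symm)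
    exact hπirr.ne_zero (pow_eq_zero_iff (by omega) |>.mp h2)
  have hsepL : ((eisPoly πB n q).map (algebraMap B L)).Separable :=
    (separable_iff_derivative_ne_zero hirrL).mpr hder
  have := hsepL.map_irreducible_of_isPurelyInseparable (E := M) hirrL
  rwa [Polynomial.map_map, ← IsScalarTower.algebraMap_eq] at this

end Groth.Agent.Lib.Helper18.Epp
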