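import Mathlib
import Groth.Prelude.Def_EtRam

/-! # Auxiliary lemmas for the compositum `M₁ = M · K₁` -/

set_option autoImplicit false
set_option linter.style.haveILetI false

namespace Groth.Agent.Lib.Helper18.Epp

open IsLocalRing

universe u

/-- From "the maximal ideal of `W` is generated by `f ρ`" to weak unramifiedness of
`W ∩ K₁ → W`. -/
theorem weaklyUnramified_comap_of_exists_eq_mul {K₁ M₁ : Type u} [Field K₁] [Field M₁]
    (f : K₁ →+* M₁) (W : ValuationSubring M₁) (ρ : K₁) (hρW : f ρ ∈ W)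
    (hρv : W.valuation (f ρ) < 1)
    (hmul : ∀ x : M₁, W.valuation x < 1 → ∃ w ∈ W, x = f ρ * w) :
    letI : Algebra (W.comap f) W := (EtRam.inclOfComap W f).toAlgebra
    EtRam.IsWeaklyUnramified (W.comap f) W := by
  letI : Algebra (W.comap f) W := (EtRam.inclOfComap W f).toAlgebra
  show (maximalIdeal (W.comap f)).map (EtRam.inclOfComap W f) = maximalIdeal W
  apply le_antisymm
  · rw [Ideal.map_le_iff_le_comap]
    intro x hx
    rw [Ideal.mem_comap, IsLocalRing.mem_maximalIdeal, mem_nonunits_iff]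
    rw [IsLocalRing.mem_maximalIdeal, mem_nonunits_iff] at hx
    intro hu
    exact hx (isUnit_of_map_unit (EtRam.inclOfComap W f) x hu)
  · intro x hx
    have hxv : W.valuation (x : M₁) < 1 := (W.valuation_lt_one_iff x).mp hx
    obtain ⟨w, hw, e⟩ := hmul (x : M₁) hxv
    have hρmem : ρ ∈ W.comap f := hρW
    have hρmax : (⟨ρ, hρmem⟩ : W.comap f) ∈ maximalIdeal (W.comap f) := by
      rw [IsLocalRing.mem_maximalIdeal, mem_nonunits_iff]
      intro hu
      have hu' : IsUnit (EtRam.inclOfComap W f ⟨ρ, hρmem⟩) := hu.map _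
      have hmem : EtRam.inclOfComap W f ⟨ρ, hρmem⟩ ∈ maximalIdeal W := by
        rw [W.valuation_lt_one_iff]
        exact hρv
      exact (IsLocalRing.mem_maximalIdeal _).mp hmem hu'
    have hxy : x = EtRam.inclOfComap W f ⟨ρ, hρmem⟩ * ⟨w, hw⟩ := Subtype.ext e
    rw [hxy]
    exact Ideal.mul_mem_right _ _ (Ideal.mem_map_of_mem _ hρmax)

section Gen

variable {K L M K₁ M₁ : Type u} [Field K] [Field L] [Field M] [Field K₁] [Field M₁]
  [Algebra K L] [Algebra L M] [Algebra K M] [IsScalarTower K L M] [Algebra K K₁]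
  [Algebra K M₁] [Algebra M M₁] [Algebra K₁ M₁] [IsScalarTower K M M₁] [IsScalarTower K K₁ M₁]
  [Algebra L M₁] [IsScalarTower L M M₁]

/-- The compositum is algebraic over `L`. -/
theorem isAlgebraic_compositum [Algebra.IsAlgebraic K K₁] [Algebra.IsAlgebraic L M]
    [IsScalarTower K L M₁]
    (hgen : Algebra.adjoin M (Set.range (algebraMap K₁ M₁)) = ⊤) : Algebra.IsAlgebraic L M₁ := by
  constructor
  intro x
  apply IsIntegral.isAlgebraic
  have hx : x ∈ Algebra.adjoin M (Set.range (algebraMap K₁ M₁)) := by rw [hgen]; trivial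
  induction hx using Algebra.adjoin_induction with
  | mem x hx =>
    obtain ⟨k, rfl⟩ := hx
    have h1 : IsIntegral K k := (Algebra.IsAlgebraic.isAlgebraic k).isIntegral
    have h2 : IsIntegral K (algebraMap K₁ M₁ k) := h1.map (IsScalarTower.toAlgHom K K₁ M₁)
    exact h2.tower_top
  | algebraMap m =>
    have h1 : IsIntegral L m := (Algebra.IsAlgebraic.isAlgebraic m).isIntegral
    exact h1.map (IsScalarTower.toAlgHom L M M₁)
  | add x y _ _ hx hy => exact hx.add hy
  | mul x y _ _ hx hy => exact hx.mul hy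

/-- Every element of the compositum lies in the subfield generated by a set containing the images
of generators. -/
theorem mem_subfield_of_gen (S : Subfield M₁) (ϖC : M)
    (hgenM : IntermediateField.adjoin L {ϖC} = ⊤)
    (hL : ∀ l : L, algebraMap L M₁ l ∈ S) (hϖ : algebraMap M M₁ ϖC ∈ S)
    (hK₁ : ∀ k : K₁, algebraMap K₁ M₁ k ∈ S)
    (hgen : Algebra.adjoin M (Set.range (algebraMap K₁ M₁)) = ⊤) (x : M₁) : x ∈ S := by
  -- the image of `M` lies in `S`
  let F : IntermediateField L M :=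
    { S.comap (algebraMap M M₁) with
      algebraMap_mem' := fun l => by
        show algebraMap M M₁ (algebraMap L M l) ∈ S
        rw [← IsScalarTower.algebraMap_apply]
        exact hL l }
  have hF : ∀ m : M, algebraMap M M₁ m ∈ S := by
    have hle : IntermediateField.adjoin L {ϖC} ≤ F := by
      rw [IntermediateField.adjoin_simple_le_iff]
      exact hϖ
    rw [hgenM] at hle
    intro m
    exact hle (IntermediateField.mem_top)
  have hx : x ∈ Algebra.adjoin M (Set.range (algebraMap K₁ M₁)) := by rw [hgen]; trivial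
  induction hx using Algebra.adjoin_induction with
  | mem x hx =>
    obtain ⟨k, rfl⟩ := hx
    exact hK₁ k
  | algebraMap m => exact hF m
  | add x y _ _ hx hy => exact S.add_mem hx hy
  | mul x y _ _ hx hy => exact S.mul_mem hx hy

end Gen

end Groth.Agent.Lib.Helper18.Epp

namespace Groth.Agent.Lib.Helper18.Epp

open IsLocalRing

universe u

/-- Valuations of a comap. -/
theorem comap_valuation_lt_one_iff {K₁ M₁ : Type u} [Field K₁] [Field M₁] (f : K₁ →+* M₁)
    (W : ValuationSubring M₁) (x : K₁) :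
    (W.comap f).valuation x < 1 ↔ W.valuation (f x) < 1 := by
  by_cases hx0 : x = 0
  · rw [hx0, map_zero, map_zero, map_zero]
    exact ⟨fun _ => zero_lt_one, fun _ => zero_lt_one⟩
  have hfx0 : f x ≠ 0 := (map_ne_zero f).mpr hx0
  have key : ∀ {F : Type u} [Field F] (V : ValuationSubring F) (y : F), y ≠ 0 →
      (V.valuation y < 1 ↔ y⁻¹ ∉ V) := by
    intro F _ V y hy0
    rw [← V.valuation_le_one_iff, map_inv₀, not_le,
      one_lt_inv₀ (zero_lt_iff.mpr ((Valuation.ne_zero_iff _).mpr hy0))]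
  rw [key _ x hx0, key _ (f x) hfx0, ← map_inv₀]
  rfl

/-- The algebraic identity behind the construction of `t`. -/
theorem exists_d₀ {R : Type*} [CommRing R] {p : ℕ} [Fact p.Prime] [CharP R p] (D₀ : Subring R)
    (m : ℕ) (β : ℕ → R) (b' ρ' η η₁ π' u' x : R)
    (hβ : ∀ i, β i ∈ D₀) (hb' : b' ∈ D₀) (hρ' : ρ' ∈ D₀) (hη : η ∈ D₀) (hη₁ : η₁ ∈ D₀)
    (h1 : π' = ρ' ^ p * η) (h2 : η = 1 + ρ' ^ (p * (m + 1)) * η₁)
    (h3 : u' = ∑ i ∈ Finset.range m, β i ^ p * π' ^ i + b' * π' ^ m)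
    (h4 : x ^ p = u' * η) :
    ∃ d₀ ∈ D₀, x ^ p - (∑ i ∈ Finset.range m, β i * ρ' ^ i) ^ p =
      ρ' ^ (p * m) * (b' + ρ' ^ p * d₀) := by
  set Z : R := ρ' ^ (p * (m + 1)) with hZ
  set G : ℕ → R := fun k => ∑ j ∈ Finset.range k, η ^ j with hG
  have hGmem : ∀ k, G k ∈ D₀ := fun k => D₀.sum_mem fun j _ => D₀.pow_mem hη j
  have hE : ∀ k, η ^ k = 1 + Z * (η₁ * G k) := by
    intro k
    have hgeom : G k * (η - 1) = η ^ k - 1 := geom_sum_mul η k
    have hη1 : η - 1 = Z * η₁ := by rw [h2]; ring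
    rw [hη1] at hgeom
    have : η ^ k = 1 + G k * (Z * η₁) := by rw [hgeom]; ring
    rw [this]; ring
  refine ⟨∑ i ∈ Finset.range m, β i ^ p * ρ' ^ (p * i) * (η₁ * G (i + 1)) +
      b' * ρ' ^ (p * m) * (η₁ * G (m + 1)), ?_, ?_⟩
  · refine D₀.add_mem (D₀.sum_mem fun i _ => ?_) ?_
    · exact D₀.mul_mem (D₀.mul_mem (D₀.pow_mem (hβ i) p) (D₀.pow_mem hρ' _))
        (D₀.mul_mem hη₁ (hGmem _))
    · exact D₀.mul_mem (D₀.mul_mem hb' (D₀.pow_mem hρ' _)) (D₀.mul_mem hη₁ (hGmem _))
  · have hsp : (∑ i ∈ Finset.range m, β i * ρ' ^ i) ^ p =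
        ∑ i ∈ Finset.range m, β i ^ p * ρ' ^ (p * i) := by
      rw [sum_pow_char]
      refine Finset.sum_congr rfl fun i _ => ?_
      rw [mul_pow, ← pow_mul, mul_comm i p]
    have hxp : x ^ p = ∑ i ∈ Finset.range m,
        (β i ^ p * ρ' ^ (p * i) + Z * (β i ^ p * ρ' ^ (p * i) * (η₁ * G (i + 1)))) +
        (b' * ρ' ^ (p * m) + Z * (b' * ρ' ^ (p * m) * (η₁ * G (m + 1)))) := by
      rw [h4, h3, add_mul, Finset.sum_mul]
      congr 1
      · refine Finset.sum_congr rfl fun i _ => ?_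
        have : β i ^ p * π' ^ i * η = β i ^ p * ρ' ^ (p * i) * η ^ (i + 1) := by
          rw [h1, mul_pow, ← pow_mul, pow_succ]; ring
        rw [this, hE (i + 1)]; ring
      · have : b' * π' ^ m * η = b' * ρ' ^ (p * m) * η ^ (m + 1) := by
          rw [h1, mul_pow, ← pow_mul, pow_succ]; ring
        rw [this, hE (m + 1)]; ring
    rw [hxp, hsp, Finset.sum_add_distrib, ← Finset.mul_sum]
    have hZ' : Z = ρ' ^ (p * m) * ρ' ^ p := by rw [hZ, ← pow_add]; ring_nf
    rw [hZ']
    ring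

end Groth.Agent.Lib.Helper18.Epp
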