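import Mathlib
import Groth.Prelude.Def_EtRam
import Groth.Agent.Lib.Helper18.Unram.ValPart
import Groth.Agent.Lib.Helper18.Unram.ResRoot
import Groth.Agent.Lib.Helper18.Unram.Sep

/-! # The local computation: a `p`-th root of a non-`p`-th power in the residue field forces
weak unramifiedness -/

set_option autoImplicit false
set_option linter.style.haveILetI false

namespace Groth.Agent.Lib.Helper18.Epp

open Polynomial IsLocalRing
open Groth.Agent.Lib.Helper18.Unram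

universe u

variable {p : ℕ} {B L M₁ : Type u} [CommRing B] [IsDomain B] [IsDiscreteValuationRing B]
  [Field L] [Algebra B L] [IsFractionRing B L] [Field M₁] [Algebra B M₁] [Algebra L M₁]
  [IsScalarTower B L M₁]

/-- The data of the local computation. -/
structure LocalData (p : ℕ) (W : ValuationSubring M₁) (S₁ : Subring M₁) (πB : B) (ρ' t : M₁)
    (b : B) : Prop where
  hp : p.Prime
  hW : EtRam.Dominates B (algebraMap B M₁) W
  halg : Algebra.IsAlgebraic L M₁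
  hπB : maximalIdeal B = Ideal.span {πB}
  hS₁W : ∀ a ∈ S₁, a ∈ W
  hρS : ρ' ∈ S₁
  hρ0 : ρ' ≠ 0
  hρv : W.valuation ρ' < 1
  hres : ∀ a ∈ S₁, ∃ b₀ : B, ∃ a' ∈ S₁, a = algebraMap B M₁ b₀ + ρ' * a'
  hη : ∃ η ∈ S₁, W.valuation η = 1 ∧ algebraMap B M₁ πB = ρ' ^ p * η
  ht : ∃ d₀ ∈ Subring.closure (Set.range (algebraMap B M₁) ∪ (S₁ : Set M₁)),
    t ^ p = algebraMap B M₁ b + ρ' * d₀
  hb : ∀ r : B, residue B b ≠ residue B r ^ p
  hgen : ∀ x : M₁, ∃ d₁ ∈ Subring.closure (Set.range (algebraMap B M₁) ∪ (S₁ : Set M₁) ∪ {t}),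
    ∃ d₂ ∈ Subring.closure (Set.range (algebraMap B M₁) ∪ (S₁ : Set M₁) ∪ {t}),
      d₂ ≠ 0 ∧ x = d₁ / d₂

namespace LocalData

variable {W : ValuationSubring M₁} {S₁ : Subring M₁} {πB : B} {ρ' t : M₁} {b : B}
  (h : LocalData (L := L) p W S₁ πB ρ' t b)
include h

/-- The ring `D`. -/
abbrev ring (B : Type u) [CommRing B] {M₁ : Type u} [Field M₁] [Algebra B M₁] (S₁ : Subring M₁)
    (t : M₁) : Subring M₁ :=
  Subring.closure (Set.range (algebraMap B M₁) ∪ (S₁ : Set M₁) ∪ {t})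

theorem mem_ring_left (b₀ : B) : algebraMap B M₁ b₀ ∈ ring B S₁ t :=
  Subring.subset_closure (Or.inl (Or.inl ⟨b₀, rfl⟩))

theorem mem_ring_S {a : M₁} (ha : a ∈ S₁) : a ∈ ring B S₁ t :=
  Subring.subset_closure (Or.inl (Or.inr ha))

theorem mem_ring_t : t ∈ ring B S₁ t :=
  Subring.subset_closure (Or.inr rfl)

theorem closure_le_ring :
    Subring.closure (Set.range (algebraMap B M₁) ∪ (S₁ : Set M₁)) ≤ ring B S₁ t :=
  Subring.closure_mono Set.subset_union_left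

theorem t_mem_W : t ∈ W := by
  obtain ⟨d₀, hd₀, htp⟩ := h.ht
  have hd₀W : d₀ ∈ W := by
    have hle : Subring.closure (Set.range (algebraMap B M₁) ∪ (S₁ : Set M₁)) ≤ W.toSubring := by
      rw [Subring.closure_le]
      rintro x (⟨b₀, rfl⟩ | hx)
      · exact h.hW.1 b₀
      · exact h.hS₁W x hx
    exact hle hd₀
  have h1 : t ^ p ∈ W := by
    rw [htp]
    exact W.add_mem _ _ (h.hW.1 b) (W.mul_mem _ _ (h.hS₁W _ h.hρS) hd₀W)
  rw [← W.valuation_le_one_iff] at h1 ⊢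
  rw [map_pow] at h1
  by_contra hlt
  rw [not_le] at hlt
  exact absurd h1 (not_le.mpr (one_lt_pow₀ hlt h.hp.ne_zero))

theorem ring_le : ∀ d ∈ ring B S₁ t, d ∈ W := by
  have hle : ring B S₁ t ≤ W.toSubring := by
    rw [Subring.closure_le]
    rintro x ((⟨b₀, rfl⟩ | hx) | hx)
    · exact h.hW.1 b₀
    · exact h.hS₁W x hx
    · rw [Set.mem_singleton_iff] at hx
      rw [hx]; exact h.t_mem_W
  exact fun d hd => hle hd

theorem injective_g : Function.Injective (algebraMap B M₁) := by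
  rw [IsScalarTower.algebraMap_eq B L M₁]
  exact (algebraMap L M₁).injective.comp (IsFractionRing.injective B L)

/-- The surjection from the field `κ_B[Y]/(Y^p - b̄)` onto `D / ρ' D`. -/
theorem exists_surj :
    ∃ Ψ : AdjoinRoot (X ^ p - C (residue B b) : (ResidueField B)[X]) →+*
        ring B S₁ t ⧸ Ideal.span {(⟨ρ', mem_ring_S h h.hρS⟩ : ring B S₁ t)},
      Function.Surjective Ψ := by
  set D := ring B S₁ t with hD
  let g : B →+* M₁ := algebraMap B M₁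
  let ρD : D := ⟨ρ', mem_ring_S h h.hρS⟩
  let J : Ideal D := Ideal.span {ρD}
  let c : B →+* D := g.codRestrict D (fun a => mem_ring_left h a)
  let q : D →+* D ⧸ J := Ideal.Quotient.mk J
  let tD : D := ⟨t, mem_ring_t h⟩
  have hqρ : q ρD = 0 :=
    Ideal.Quotient.eq_zero_iff_mem.mpr (Ideal.subset_span (Set.mem_singleton _))
  obtain ⟨η, hηS, -, hπη⟩ := h.hη
  obtain ⟨k, hk⟩ : ∃ k, p = k + 1 := ⟨p - 1, by have := h.hp.pos; omega⟩
  have hcπ : q (c πB) = 0 := by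
    have : c πB = ρD * (ρD ^ k * ⟨η, mem_ring_S h hηS⟩) := by
      apply Subtype.ext
      show algebraMap B M₁ πB = ρ' * (ρ' ^ k * η)
      rw [hπη, hk]; ring
    rw [this, map_mul, hqρ, zero_mul]
  let ψ₀ : ResidueField B →+* D ⧸ J := Ideal.Quotient.lift (maximalIdeal B) (q.comp c)
    (fun a ha => by
      rw [h.hπB] at ha
      obtain ⟨a', rfl⟩ := Ideal.mem_span_singleton'.mp ha
      show q (c (a' * πB)) = 0
      rw [map_mul, map_mul, hcπ, mul_zero])
  have hψ₀ : ∀ a, ψ₀ (residue B a) = q (c a) := fun a => rfl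
  obtain ⟨d₀, hd₀, htp⟩ := h.ht
  have hd₀D : d₀ ∈ D := closure_le_ring h hd₀
  have hroot : eval₂ ψ₀ (q tD) (X ^ p - C (residue B b) : (ResidueField B)[X]) = 0 := by
    rw [eval₂_sub, eval₂_pow, eval₂_X, eval₂_C, hψ₀, ← map_pow, ← map_sub]
    have : tD ^ p - c b = ρD * ⟨d₀, hd₀D⟩ := by
      apply Subtype.ext
      show t ^ p - algebraMap B M₁ b = ρ' * d₀
      rw [htp]; ring
    rw [this, map_mul, hqρ, zero_mul]
  let Ψ' : AdjoinRoot (X ^ p - C (residue B b) : (ResidueField B)[X]) →+* D ⧸ J :=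
    AdjoinRoot.lift ψ₀ (q tD) hroot
  have hΨ'of : ∀ x, Ψ' (AdjoinRoot.of _ x) = ψ₀ x := fun x => AdjoinRoot.lift_of hroot
  have hΨ'root : Ψ' (AdjoinRoot.root _) = q tD := AdjoinRoot.lift_root hroot
  refine ⟨Ψ', ?_⟩
  intro w
  obtain ⟨⟨x, hx⟩, rfl⟩ := Ideal.Quotient.mk_surjective w
  show q ⟨x, hx⟩ ∈ Ψ'.range
  induction hx using Subring.closure_induction with
  | mem x hx =>
    rcases hx with (⟨a, rfl⟩ | hxS) | hxt
    · exact ⟨AdjoinRoot.of _ (residue B a), by rw [hΨ'of, hψ₀]; rfl⟩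
    · obtain ⟨b₀, a', ha', e⟩ := h.hres x hxS
      refine ⟨AdjoinRoot.of _ (residue B b₀), ?_⟩
      rw [hΨ'of, hψ₀]
      have : (⟨x, Subring.subset_closure (Or.inl (Or.inr hxS))⟩ : D) =
          c b₀ + ρD * ⟨a', mem_ring_S h ha'⟩ := Subtype.ext e
      rw [this, map_add, map_mul, hqρ, zero_mul, add_zero]
    · have : ∀ h', (⟨x, h'⟩ : D) = tD := fun h' => Subtype.ext hxt
      rw [this]
      exact ⟨AdjoinRoot.root _, hΨ'root⟩
  | zero => exact Ψ'.range.zero_mem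
  | one => exact Ψ'.range.one_mem
  | add x y hx hy ihx ihy =>
    have : (⟨x + y, D.add_mem hx hy⟩ : D) = ⟨x, hx⟩ + ⟨y, hy⟩ := rfl
    rw [this, map_add]; exact Ψ'.range.add_mem ihx ihy
  | neg x hx ihx =>
    have : (⟨-x, D.neg_mem hx⟩ : D) = -⟨x, hx⟩ := rfl
    rw [this, map_neg]; exact Ψ'.range.neg_mem ihx
  | mul x y hx hy ihx ihy =>
    have : (⟨x * y, D.mul_mem hx hy⟩ : D) = ⟨x, hx⟩ * ⟨y, hy⟩ := rfl
    rw [this, map_mul]; exact Ψ'.range.mul_mem ihx ihy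

theorem udata : UData W (ring B S₁ t) ρ' := by
  haveI := h.halg
  obtain ⟨Ψ, hΨ⟩ := h.exists_surj
  have hirr : Irreducible (X ^ p - C (residue B b) : (ResidueField B)[X]) := by
    apply X_pow_sub_C_irreducible_of_prime h.hp
    intro b'
    obtain ⟨r, rfl⟩ := residue_surjective b'
    exact (h.hb r).symm
  haveI : Fact (Irreducible (X ^ p - C (residue B b) : (ResidueField B)[X])) := ⟨hirr⟩
  have hP : ∀ 𝔫 : Ideal (AdjoinRoot (X ^ p - C (residue B b) : (ResidueField B)[X])),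
      𝔫.IsPrime → ∀ x ∈ 𝔫, ∃ s ∉ 𝔫, s * x = 0 := by
    intro 𝔫 h𝔫 x hx
    have hx0 : x = 0 := by
      by_contra hne
      exact h𝔫.ne_top (Ideal.eq_top_of_isUnit_mem _ hx (isUnit_iff_ne_zero.mpr hne))
    exact ⟨1, fun h1 => h𝔫.ne_top ((Ideal.eq_top_iff_one _).mpr h1), by rw [hx0, mul_zero]⟩
  have hπirr : Irreducible πB := (IsDiscreteValuationRing.irreducible_iff_uniformizer πB).mpr h.hπB
  obtain ⟨η, hηS, hηv, hπη⟩ := h.hη
  refine
    { hDW := h.ring_le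
      hϖD := mem_ring_S h h.hρS
      hϖ := h.hρv
      hϖ0 := h.hρ0
      sep := ?_
      f3 := f3_of_surjective (ring B S₁ t) h.ring_le ρ' (mem_ring_S h h.hρS) h.hρv hP _ rfl Ψ hΨ
      gen := h.hgen }
  intro x _ hx0
  have h1 : IsAlgebraic L x := Algebra.IsAlgebraic.isAlgebraic x
  have h2 : IsAlgebraic B x := (IsFractionRing.isAlgebraic_iff B L M₁).mpr h1
  obtain ⟨P, hP0, hPx⟩ := h2
  obtain ⟨n, hn⟩ := sep_of_algebraic h.hW h.injective_g hπirr x hx0 P hP0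
    (by rw [← hPx, aeval_def])
  refine ⟨p * n, ?_⟩
  have hval : W.valuation (algebraMap B M₁ πB) = W.valuation ρ' ^ p := by
    rw [hπη, map_mul, map_pow, hηv, mul_one]
  rwa [pow_mul, ← hval]

/-- The conclusion: the maximal ideal of `W` is generated by `ρ'`. -/
theorem exists_eq_mul (x : M₁) (hx : W.valuation x < 1) : ∃ w ∈ W, x = ρ' * w :=
  h.udata.exists_eq_mul x hx

end LocalData

end Groth.Agent.Lib.Helper18.Epp
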