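import Mathlib
import Groth.Prelude.Def_EtRam
import Groth.Agent.Lib.Helper18.Epp.Basic
import Groth.Agent.Lib.Helper18.Epp.Local
import Groth.Agent.Lib.Helper18.Epp.K1Aux
import Groth.Agent.Lib.Helper18.Eis.EisValMore

/-! # The totally ramified extension `K₁` makes `C` weakly unramified -/

set_option autoImplicit false
set_option linter.style.haveILetI false

namespace Groth.Agent.Lib.Helper18.Epp

open Polynomial IsLocalRing IntermediateField
open Groth.Agent.Lib.Helper18.Eis Groth.Agent.Lib.Helper18.Unram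

universe u

set_option maxHeartbeats 1600000 in
/-- The local statement: in the compositum `M₁`, the maximal ideal of any valuation ring dominating
`C` is generated by the uniformizer `ρ` of `K₁`. -/
theorem local_exists_eq_mul {p : ℕ} {A B C K L M K₁ M₁ : Type u}
    [CommRing A] [IsDomain A] [IsDiscreteValuationRing A] [CommRing B] [IsDomain B]
    [IsDiscreteValuationRing B] [CommRing C] [IsDomain C] [IsDiscreteValuationRing C]
    [Algebra A B] [Algebra B C] [Algebra A C] [IsScalarTower A B C]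
    [IsLocalHom (algebraMap A B)] [IsLocalHom (algebraMap B C)]
    [Field K] [Field L] [Field M] [Algebra A K] [IsFractionRing A K] [Algebra B L]
    [IsFractionRing B L] [Algebra C M] [IsFractionRing C M] [Algebra K L] [Algebra L M]
    [Algebra K M] [IsScalarTower K L M] [Algebra A L] [IsScalarTower A K L] [IsScalarTower A B L]
    [Algebra B M] [IsScalarTower B L M] [IsScalarTower B C M] [Algebra A M] [IsScalarTower A K M]
    [IsScalarTower A C M]
    (hp : p.Prime) [CharP L p] (π : A) (hπ : maximalIdeal A = Ideal.span {π})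
    (hw : EtRam.IsWeaklyUnramified A B) (hdeg : Module.finrank L M = p)
    (ϖC : C) (u : B) (hϖC : ϖC ^ p = algebraMap B C u * algebraMap A C π)
    (hgenM : L⟮algebraMap C M ϖC⟯ = ⊤) (m : ℕ) (f : ℕ → B) (b : B)
    (hub : u = ∑ i ∈ Finset.range m, f i ^ p * (algebraMap A B π) ^ i +
      b * (algebraMap A B π) ^ m)
    (hb : ∀ r : B, residue B b ≠ residue B r ^ p)
    [Field K₁] [Algebra K K₁] [Algebra A K₁] [IsScalarTower A K K₁]
    (hK₁ : Module.finrank K K₁ = p) (ρ b₁ : K₁) (hρint : IsIntegral A ρ) (hb₁ : IsIntegral A b₁)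
    (hρ : ρ ^ p = algebraMap A K₁ π + algebraMap A K₁ π ^ (m + 2) * b₁)
    [Field M₁] [Algebra K M₁] [Algebra M M₁] [Algebra K₁ M₁] [IsScalarTower K M M₁]
    [IsScalarTower K K₁ M₁]
    (hgen : Algebra.adjoin M (Set.range (algebraMap K₁ M₁)) = ⊤) (W : ValuationSubring M₁)
    (hW : EtRam.Dominates C ((algebraMap M M₁).comp (algebraMap C M)) W) :
    algebraMap K₁ M₁ ρ ∈ W ∧ W.valuation (algebraMap K₁ M₁ ρ) < 1 ∧
      ∀ x : M₁, W.valuation x < 1 → ∃ w ∈ W, x = algebraMap K₁ M₁ ρ * w := by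
  haveI : Fact p.Prime := ⟨hp⟩
  haveI : FiniteDimensional K K₁ := Module.finite_of_finrank_pos (by rw [hK₁]; exact hp.pos)
  haveI : FiniteDimensional L M := Module.finite_of_finrank_pos (by rw [hdeg]; exact hp.pos)
  letI algLM₁ : Algebra L M₁ := ((algebraMap M M₁).comp (algebraMap L M)).toAlgebra
  letI algBM₁ : Algebra B M₁ := ((algebraMap M M₁).comp (algebraMap B M)).toAlgebra
  haveI : IsScalarTower L M M₁ := IsScalarTower.of_algebraMap_eq (fun _ => rfl)
  haveI : IsScalarTower B M M₁ := IsScalarTower.of_algebraMap_eq (fun _ => rfl)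
  haveI : IsScalarTower B L M₁ := IsScalarTower.of_algebraMap_eq (fun x => by
    show algebraMap M M₁ (algebraMap B M x) = algebraMap M M₁ (algebraMap L M (algebraMap B L x))
    rw [← IsScalarTower.algebraMap_apply B L M])
  haveI : IsScalarTower K L M₁ := IsScalarTower.of_algebraMap_eq (fun x => by
    show algebraMap K M₁ x = algebraMap M M₁ (algebraMap L M (algebraMap K L x))
    rw [← IsScalarTower.algebraMap_apply K L M, ← IsScalarTower.algebraMap_apply K M M₁])
  haveI : CharP M₁ p := charP_of_injective_algebraMap (algebraMap L M₁).injective p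
  set g : K₁ →+* M₁ := algebraMap K₁ M₁ with hg
  set πB : B := algebraMap A B π with hπBdef
  have hπB : maximalIdeal B = Ideal.span {πB} := uniformizer_B hπ hw
  have hπirr : Irreducible π := (IsDiscreteValuationRing.irreducible_iff_uniformizer π).mpr hπ
  -- compatibility of the two maps from `A`
  have hABM : ∀ a : A, algebraMap B M (algebraMap A B a) = algebraMap A M a := by
    intro a
    rw [IsScalarTower.algebraMap_apply B C M, ← IsScalarTower.algebraMap_apply A B C,
      ← IsScalarTower.algebraMap_apply A C M]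
  have compat : ∀ a : A, g (algebraMap A K₁ a) = algebraMap B M₁ (algebraMap A B a) := by
    intro a
    show algebraMap K₁ M₁ (algebraMap A K₁ a) = algebraMap M M₁ (algebraMap B M (algebraMap A B a))
    rw [hABM, IsScalarTower.algebraMap_apply A K K₁, ← IsScalarTower.algebraMap_apply K K₁ M₁,
      IsScalarTower.algebraMap_apply A K M, ← IsScalarTower.algebraMap_apply K M M₁]
  -- `W` dominates `B`
  have hWB : EtRam.Dominates B (algebraMap B M₁) W := by
    refine ⟨fun b₀ => ?_, fun b₀ hb₀ => ?_⟩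
    · have := hW.1 (algebraMap B C b₀)
      rwa [RingHom.comp_apply, ← IsScalarTower.algebraMap_apply B C M] at this
    · have hmem : algebraMap B C b₀ ∈ maximalIdeal C := by
        rw [IsLocalRing.mem_maximalIdeal, mem_nonunits_iff]
        intro hu
        exact (IsLocalRing.mem_maximalIdeal _).mp hb₀ (isUnit_of_map_unit _ _ hu)
      have := hW.2 _ hmem
      rwa [RingHom.comp_apply, ← IsScalarTower.algebraMap_apply B C M] at this
  -- the valuation ring `V₁ = W ∩ K₁` dominates `A`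
  set V₁ : ValuationSubring K₁ := W.comap g with hV₁
  have hV₁dom : EtRam.Dominates A (algebraMap A K₁) V₁ := by
    refine ⟨fun a => ?_, fun a ha => ?_⟩
    · show g (algebraMap A K₁ a) ∈ W
      rw [compat]; exact hWB.1 _
    · rw [comap_valuation_lt_one_iff, compat]
      apply hWB.2
      rw [IsLocalRing.mem_maximalIdeal, mem_nonunits_iff]
      intro hu
      exact (IsLocalRing.mem_maximalIdeal _).mp ha (isUnit_of_map_unit _ _ hu)
  have hπK₁0 : algebraMap A K₁ π ≠ 0 := fun h0 =>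
    hπirr.ne_zero (algebraMap_injective' A K K₁ (h0.trans (map_zero _).symm))
  -- `ε`
  set ε : K₁ := 1 + algebraMap A K₁ π ^ (m + 1) * b₁ with hε
  have hρε : ρ ^ p = algebraMap A K₁ π * ε := by rw [hρ, hε]; ring
  have hεval : ∀ V : ValuationSubring K₁, EtRam.Dominates A (algebraMap A K₁) V →
      V.valuation ε = 1 := by
    intro V hV
    apply Valuation.map_one_add_of_lt
    have h1 : V.valuation (algebraMap A K₁ π) < 1 :=
      hV.2 π (by rw [hπ]; exact Ideal.mem_span_singleton_self π)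
    have h2 : V.valuation b₁ ≤ 1 := (V.valuation_le_one_iff _).mpr (mem_of_isIntegral V hV.1 hb₁)
    rw [map_mul, map_pow]
    calc V.valuation (algebraMap A K₁ π) ^ (m + 1) * V.valuation b₁
        ≤ V.valuation (algebraMap A K₁ π) ^ (m + 1) * 1 := mul_le_mul' le_rfl h2
      _ = V.valuation (algebraMap A K₁ π) ^ (m + 1) := mul_one _
      _ < 1 := pow_lt_one₀ zero_le' h1 (Nat.succ_ne_zero m)
  have hvalρ : ∀ V : ValuationSubring K₁, EtRam.Dominates A (algebraMap A K₁) V →
      V.valuation ρ ^ p = V.valuation (algebraMap A K₁ π) := by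
    intro V hV
    rw [← map_pow, hρε, map_mul, hεval V hV, mul_one]
  obtain ⟨pb, hpbgen, -, hE, -⟩ := exists_eisVal_of_val hp hK₁ π hπ ρ hvalρ
  have hε0 : ε ≠ 0 := by
    intro h0
    have := hεval V₁ hV₁dom
    rw [h0, map_zero] at this
    exact zero_ne_one this
  have hεV₁ : ε⁻¹ ∈ V₁ := by
    rw [← V₁.valuation_le_one_iff, map_inv₀, hεval V₁ hV₁dom, inv_one]
  have hεV₁' : ε ∈ V₁ := by
    rw [← V₁.valuation_le_one_iff, hεval V₁ hV₁dom]
  have hb₁V₁ : b₁ ∈ V₁ := mem_of_isIntegral V₁ hV₁dom.1 hb₁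
  have hρV₁ : ρ ∈ V₁ := mem_of_isIntegral V₁ hV₁dom.1 hρint
  -- the subring `S₁`
  set S₁ : Subring M₁ := V₁.toSubring.map g with hS₁
  have hS₁mem : ∀ {y : K₁}, y ∈ V₁ → g y ∈ S₁ := fun {y} hy => ⟨y, hy, rfl⟩
  set ρ' : M₁ := g ρ with hρ'
  set π' : M₁ := algebraMap B M₁ πB with hπ'
  have hπ'g : g (algebraMap A K₁ π) = π' := compat π
  set η : M₁ := g ε⁻¹ with hη
  set η₁ : M₁ := g (-(ε⁻¹ ^ (m + 2) * b₁)) with hη₁
  have hπη : π' = ρ' ^ p * η := by
    rw [hρ', hη, ← map_pow, ← map_mul, hρε, mul_assoc, mul_inv_cancel₀ hε0, mul_one, hπ'g]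
  have hηη₁ : η = 1 + ρ' ^ (p * (m + 1)) * η₁ := by
    rw [hρ', hη, hη₁, pow_mul, ← map_pow, ← map_pow, ← map_mul, ← map_one g, ← map_add, hρε]
    congr 1
    have : ε⁻¹ * ε = 1 := inv_mul_cancel₀ hε0
    have h2 : ε⁻¹ = 1 - algebraMap A K₁ π ^ (m + 1) * b₁ * ε⁻¹ := by
      have : (1 + algebraMap A K₁ π ^ (m + 1) * b₁) * ε⁻¹ = 1 := by
        rw [← hε]; exact mul_inv_cancel₀ hε0
      linear_combination this
    have h3 : (algebraMap A K₁ π * ε) ^ (m + 1) * -(ε⁻¹ ^ (m + 2) * b₁) =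
        -(algebraMap A K₁ π ^ (m + 1) * b₁ * ε⁻¹) := by
      have h4 : ε ^ (m + 1) * ε⁻¹ ^ (m + 2) = ε⁻¹ := by
        rw [pow_succ ε⁻¹ (m + 1), ← mul_assoc, ← mul_pow, mul_inv_cancel₀ hε0, one_pow, one_mul]
      calc (algebraMap A K₁ π * ε) ^ (m + 1) * -(ε⁻¹ ^ (m + 2) * b₁)
          = -(algebraMap A K₁ π ^ (m + 1) * b₁ * (ε ^ (m + 1) * ε⁻¹ ^ (m + 2))) := by ring
        _ = _ := by rw [h4]
    rw [h3]
    linear_combination h2
  have hρ'0 : ρ' ≠ 0 := by
    rw [hρ', Ne, map_eq_zero]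
    intro h0
    rw [h0, zero_pow hp.ne_zero] at hρε
    exact (mul_ne_zero hπK₁0 hε0) hρε.symm
  have hηval : W.valuation η = 1 := by
    have h1 : W.valuation η ≤ 1 := (W.valuation_le_one_iff _).mpr hεV₁
    have h2 : W.valuation (g ε) ≤ 1 := (W.valuation_le_one_iff _).mpr hεV₁'
    have h3 : W.valuation η * W.valuation (g ε) = 1 := by
      rw [hη, ← map_mul, ← map_mul, inv_mul_cancel₀ hε0, map_one, map_one]
    by_contra hne
    have hlt : W.valuation η < 1 := lt_of_le_of_ne h1 hne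
    have : W.valuation η * W.valuation (g ε) < 1 :=
      mul_lt_one_of_nonneg_of_lt_one_left zero_le' hlt h2
    rw [h3] at this
    exact lt_irrefl _ this
  have hπ'lt : W.valuation π' < 1 := hWB.2 πB (by rw [hπB]; exact Ideal.mem_span_singleton_self πB)
  have hρ'lt : W.valuation ρ' < 1 := by
    by_contra hge
    rw [not_lt] at hge
    have : 1 ≤ W.valuation ρ' ^ p := one_le_pow₀ hge
    have h2 : W.valuation π' = W.valuation ρ' ^ p := by
      rw [hπη, map_mul, map_pow, hηval, mul_one]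
    rw [← h2] at this
    exact absurd hπ'lt (not_lt.mpr this)
  -- the element `x` and the expansion
  set ϖ' : M₁ := algebraMap M M₁ (algebraMap C M ϖC) with hϖ'
  set u' : M₁ := algebraMap B M₁ u with hu'
  have hϖ'p : ϖ' ^ p = u' * π' := by
    rw [hϖ', ← map_pow, ← map_pow, hϖC, map_mul, map_mul, ← IsScalarTower.algebraMap_apply B C M,
      ← IsScalarTower.algebraMap_apply A C M, ← hABM]
    rfl
  set x : M₁ := ϖ' / ρ' with hx
  have hxp : x ^ p = u' * η := by
    rw [hx, div_pow, hϖ'p, hπη, mul_comm (ρ' ^ p) η, ← mul_assoc, mul_div_assoc,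
      div_self (pow_ne_zero p hρ'0), mul_one]
  set D₀ : Subring M₁ := Subring.closure (Set.range (algebraMap B M₁) ∪ (S₁ : Set M₁)) with hD₀
  have hBD₀ : ∀ b₀ : B, algebraMap B M₁ b₀ ∈ D₀ := fun b₀ =>
    Subring.subset_closure (Or.inl ⟨b₀, rfl⟩)
  have hSD₀ : ∀ {y : M₁}, y ∈ S₁ → y ∈ D₀ := fun {y} hy => Subring.subset_closure (Or.inr hy)
  have hu'exp : u' = ∑ i ∈ Finset.range m, algebraMap B M₁ (f i) ^ p * π' ^ i +
      algebraMap B M₁ b * π' ^ m := by
    rw [hu', hub, map_add, map_sum, map_mul, map_pow]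
    congr 1
    refine Finset.sum_congr rfl fun i _ => ?_
    rw [map_mul, map_pow, map_pow]
  obtain ⟨d₀, hd₀, hd₀eq⟩ := exists_d₀ D₀ m (fun i => algebraMap B M₁ (f i)) (algebraMap B M₁ b)
    ρ' η η₁ π' u' x (fun i => hBD₀ _) (hBD₀ b) (hSD₀ (hS₁mem hρV₁)) (hSD₀ (hS₁mem hεV₁))
    (hSD₀ (hS₁mem (V₁.neg_mem _ (V₁.mul_mem _ _ (pow_mem hεV₁ _) hb₁V₁)))) hπη hηη₁ hu'exp hxp
  set s : M₁ := ∑ i ∈ Finset.range m, algebraMap B M₁ (f i) * ρ' ^ i with hs
  set t : M₁ := (x - s) / ρ' ^ m with ht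
  have htp : t ^ p = algebraMap B M₁ b + ρ' ^ p * d₀ := by
    rw [ht, div_pow, sub_pow_char, hd₀eq, ← pow_mul, mul_comm m p,
      mul_div_cancel_left₀ _ (pow_ne_zero _ hρ'0)]
  obtain ⟨k, hk⟩ : ∃ k, p = k + 1 := ⟨p - 1, by have := hp.pos; omega⟩
  have hρ'D₀ : ρ' ∈ D₀ := hSD₀ (hS₁mem hρV₁)
  -- the local data
  have hLD : LocalData (L := L) p W S₁ πB ρ' t b :=
    { hp := hp
      hW := hWB
      halg := by
        haveI : Algebra.IsAlgebraic K K₁ := Algebra.IsAlgebraic.of_finite K K₁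
        haveI : Algebra.IsAlgebraic L M := Algebra.IsAlgebraic.of_finite L M
        exact isAlgebraic_compositum (K := K) (L := L) (M := M) (K₁ := K₁) hgen
      hπB := hπB
      hS₁W := by
        rintro a ⟨y, hy, rfl⟩
        exact hy
      hρS := hS₁mem hρV₁
      hρ0 := hρ'0
      hρv := hρ'lt
      hres := by
        rintro a ⟨y, hy, rfl⟩
        obtain ⟨a₀, y', hy', e⟩ := hE.exists_eq_add_mul V₁ hV₁dom y hy
        refine ⟨algebraMap A B a₀, g y', hS₁mem hy', ?_⟩
        show g y = _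
        rw [e, map_add, map_mul, compat, hpbgen]
      hη := ⟨η, hS₁mem hεV₁, hηval, hπη⟩
      ht := ⟨ρ' ^ k * d₀, D₀.mul_mem (D₀.pow_mem hρ'D₀ k) hd₀, by rw [htp, hk]; ring⟩
      hb := hb
      hgen := by
        intro y
        set S : Subfield M₁ :=
          Subfield.closure (Set.range (algebraMap B M₁) ∪ (S₁ : Set M₁) ∪ {t}) with hS
        have hsub : ∀ {z : M₁}, z ∈ Set.range (algebraMap B M₁) ∪ (S₁ : Set M₁) ∪ {t} → z ∈ S :=
          fun {z} hz => Subfield.subset_closure hz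
        have hLS : ∀ l : L, algebraMap L M₁ l ∈ S := by
          intro l
          obtain ⟨b₂, b₃, -, rfl⟩ := IsFractionRing.div_surjective (A := B) l
          rw [map_div₀, ← IsScalarTower.algebraMap_apply, ← IsScalarTower.algebraMap_apply]
          exact S.div_mem (hsub (Or.inl (Or.inl ⟨b₂, rfl⟩))) (hsub (Or.inl (Or.inl ⟨b₃, rfl⟩)))
        have hρ'S : ρ' ∈ S := hsub (Or.inl (Or.inr (hS₁mem hρV₁)))
        have htS : t ∈ S := hsub (Or.inr rfl)
        have hsS : s ∈ S := by
          rw [hs]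
          refine S.sum_mem fun i _ => ?_
          exact S.mul_mem (hsub (Or.inl (Or.inl ⟨f i, rfl⟩))) (S.pow_mem hρ'S i)
        have hϖS : algebraMap M M₁ (algebraMap C M ϖC) ∈ S := by
          have h1 : ϖ' = (s + ρ' ^ m * t) * ρ' := by
            rw [ht, mul_div_cancel₀ _ (pow_ne_zero _ hρ'0), hx]
            field_simp
            ring
          show ϖ' ∈ S
          rw [h1]
          exact S.mul_mem (S.add_mem hsS (S.mul_mem (S.pow_mem hρ'S m) htS)) hρ'S
        have hK₁S : ∀ k₁ : K₁, algebraMap K₁ M₁ k₁ ∈ S := by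
          intro k₁
          rcases V₁.mem_or_inv_mem k₁ with h1 | h1
          · exact hsub (Or.inl (Or.inr (hS₁mem h1)))
          · have h2 : g k₁⁻¹ ∈ S := hsub (Or.inl (Or.inr (hS₁mem h1)))
            have h3 : algebraMap K₁ M₁ k₁ = (g k₁⁻¹)⁻¹ := by
              rw [map_inv₀, inv_inv]
            rw [h3]
            exact S.inv_mem h2
        have hyS : y ∈ S := mem_subfield_of_gen (L := L) S (algebraMap C M ϖC) hgenM hLS
          hϖS hK₁S hgen y
        obtain ⟨d₁, hd₁, d₂, hd₂, e⟩ := Subfield.mem_closure_iff.mp hyS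
        by_cases hy0 : y = 0
        · exact ⟨0, Subring.zero_mem _, 1, Subring.one_mem _, one_ne_zero, by rw [hy0, zero_div]⟩
        · refine ⟨d₁, hd₁, d₂, hd₂, ?_, e.symm⟩
          intro h0
          rw [h0, div_zero] at e
          exact hy0 e.symm }
  exact ⟨hρV₁, hρ'lt, hLD.exists_eq_mul⟩

end Groth.Agent.Lib.Helper18.Epp
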