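import Mathlib

/-! # A closedness statement for submodules of finite modules over Noetherian local rings -/

set_option autoImplicit false

namespace Groth.Agent.Lib.Helper18.Epp

open IsLocalRing

/-- Submodules of a finite module over a Noetherian local ring are closed for the adic topology. -/
theorem mem_of_forall_decomp {R N : Type*} [CommRing R] [IsNoetherianRing R] [IsLocalRing R]
    [AddCommGroup N] [Module R N] (D E : Submodule R N) (hD : D.FG) (x : N) (hx : x ∈ D)
    (h : ∀ q : ℕ, ∃ s ∈ E, ∃ t ∈ D, ∃ r ∈ maximalIdeal R ^ q, x = s + r • t) : x ∈ E := by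
  haveI : Module.Finite R D := Module.Finite.iff_fg.mpr hD
  let E' : Submodule R D := Submodule.comap D.subtype E
  have hkrull : (⨅ i : ℕ, (maximalIdeal R) ^ i • (⊤ : Submodule R (D ⧸ E'))) = ⊥ :=
    Ideal.iInf_pow_smul_eq_bot_of_isLocalRing (maximalIdeal R) Ideal.IsPrime.ne_top'
  have hmem : (Submodule.Quotient.mk (⟨x, hx⟩ : D) : D ⧸ E') ∈
      (⨅ i : ℕ, (maximalIdeal R) ^ i • (⊤ : Submodule R (D ⧸ E'))) := by
    rw [Submodule.mem_iInf]
    intro q
    obtain ⟨s, hs, t, ht, r, hr, hxst⟩ := h q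
    have hsD : s ∈ D := by
      have : s = x - r • t := by rw [hxst]; abel
      rw [this]
      exact D.sub_mem hx (D.smul_mem r ht)
    have hdec : (⟨x, hx⟩ : D) = ⟨s, hsD⟩ + r • ⟨t, ht⟩ := Subtype.ext hxst
    have hsE' : (⟨s, hsD⟩ : D) ∈ E' := hs
    rw [hdec, Submodule.Quotient.mk_add, (Submodule.Quotient.mk_eq_zero E').mpr hsE', zero_add,
      Submodule.Quotient.mk_smul]
    exact Submodule.smul_mem_smul hr Submodule.mem_top
  rw [hkrull] at hmem
  have hzero : (Submodule.Quotient.mk (⟨x, hx⟩ : D) : D ⧸ E') = 0 := (Submodule.mem_bot R).mp hmem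
  exact (Submodule.Quotient.mk_eq_zero E').mp hzero

end Groth.Agent.Lib.Helper18.Epp
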