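import Mathlib
import Groth.Prelude.Def_EtRam
import Groth.Agent.Lib.Helper18.Epp.Basic
import Groth.Agent.Lib.Helper18.Eis.TotRam2

/-! # `C = B[π^(1/p)]` once `π` has a `p`-th root in `C` -/

set_option autoImplicit false
set_option linter.style.haveILetI false

namespace Groth.Agent.Lib.Helper18.Epp

open Polynomial IsLocalRing IntermediateField
open Groth.Agent.Lib.Helper18.Eis

universe u

section ValSub

variable (C M : Type u) [CommRing C] [IsDomain C] [ValuationRing C] [Field M] [Algebra C M]
  [IsFractionRing C M]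

/-- A valuation ring as a valuation subring of its fraction field. -/
noncomputable def valSub : ValuationSubring M :=
  { (algebraMap C M).range with
    mem_or_inv_mem' := fun x => by
      rcases ValuationRing.isInteger_or_isInteger C x with ⟨c, hc⟩ | ⟨c, hc⟩
      · exact Or.inl ⟨c, hc⟩
      · exact Or.inr ⟨c, hc⟩ }

variable {C M}

theorem mem_valSub {x : M} : x ∈ valSub C M ↔ ∃ c : C, algebraMap C M c = x := Iff.rfl

theorem valSub_val_lt_one {c : C} (hc : ¬ IsUnit c) :
    (valSub C M).valuation (algebraMap C M c) < 1 := by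
  have hmem : algebraMap C M c ∈ valSub C M := ⟨c, rfl⟩
  have h1 : (⟨algebraMap C M c, hmem⟩ : valSub C M) ∈ maximalIdeal (valSub C M) := by
    rw [IsLocalRing.mem_maximalIdeal, mem_nonunits_iff]
    intro hu
    obtain ⟨⟨a, ⟨a', ⟨c'', hc''⟩⟩, h1, h2⟩, ha⟩ := hu
    apply hc
    have h3 : (a : M) = algebraMap C M c := congrArg Subtype.val ha
    have h4 : algebraMap C M c * algebraMap C M c'' = 1 := by
      rw [hc'', ← h3]
      exact congrArg Subtype.val h1
    rw [← map_mul] at h4
    have h5 : c * c'' = 1 := IsFractionRing.injective C M (h4.trans (map_one _).symm)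
    exact IsUnit.of_mul_eq_one _ h5
  exact ((valSub C M).valuation_lt_one_iff _).mp h1

theorem dominates_valSub (B : Type u) [CommRing B] [IsLocalRing B] [IsLocalRing C] [Algebra B C]
    [IsLocalHom (algebraMap B C)] [Algebra B M] [IsScalarTower B C M] :
    EtRam.Dominates B (algebraMap B M) (valSub C M) := by
  refine ⟨fun b => ⟨algebraMap B C b, (IsScalarTower.algebraMap_apply B C M b).symm⟩, ?_⟩
  intro b hb
  rw [IsScalarTower.algebraMap_apply B C M]
  apply valSub_val_lt_one
  intro hu
  exact (IsLocalRing.mem_maximalIdeal _).mp hb (isUnit_of_map_unit _ _ hu)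

end ValSub

section Root

variable {p : ℕ} {B C L M : Type u} [CommRing B] [IsDomain B] [IsDiscreteValuationRing B]
  [CommRing C] [IsDomain C] [IsDiscreteValuationRing C] [Algebra B C]
  [IsLocalHom (algebraMap B C)] [Field L] [Field M] [Algebra B L] [IsFractionRing B L]
  [Algebra C M] [IsFractionRing C M] [Algebra L M] [Algebra B M] [IsScalarTower B L M]
  [IsScalarTower B C M]

/-- An element of `C` whose `p`-th power is a uniformizer of `B` does not come from `L`. -/
theorem root_not_mem_range (hp : p.Prime) (hBC : Function.Injective (algebraMap B C)) {πB : B}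
    (hπB : Irreducible πB) {c : C} (hc : c ^ p = algebraMap B C πB) :
    algebraMap C M c ∉ Set.range (algebraMap L M) := by
  rintro ⟨x, hx⟩
  have hCM : Function.Injective (algebraMap C M) := IsFractionRing.injective C M
  obtain ⟨b, hb⟩ := mem_range_of_mem_range (B := B) hCM x c hx
  have hcb : c = algebraMap B C b := by
    apply hCM
    rw [← hx, ← hb, ← IsScalarTower.algebraMap_apply, ← IsScalarTower.algebraMap_apply]
  have hbp : b ^ p = πB := by
    apply hBC
    rw [map_pow, ← hcb, hc]
  obtain ⟨k, hk⟩ : ∃ k, p = k + 2 := ⟨p - 2, by have := hp.two_le; omega⟩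
  have h1 : πB = b * b ^ (k + 1) := by rw [← hbp, hk]; ring
  rcases hπB.isUnit_or_isUnit h1 with hu | hu
  · exact hπB.not_isUnit (by rw [← hbp]; exact hu.pow p)
  · have : IsUnit b := (isUnit_pow_iff (Nat.succ_ne_zero k)).mp hu
    exact hπB.not_isUnit (by rw [← hbp]; exact this.pow p)

/-- `C = B[c]` when `c ^ p` is a uniformizer of `B` and `[M : L] = p`. -/
theorem adjoin_eq_top_of_root (hp : p.Prime) (hBC : Function.Injective (algebraMap B C))
    (hdeg : Module.finrank L M = p) {πB : B} (hπB : maximalIdeal B = Ideal.span {πB}) {c : C}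
    (hc : c ^ p = algebraMap B C πB) : Algebra.adjoin B {c} = ⊤ := by
  have hπirr : Irreducible πB := (IsDiscreteValuationRing.irreducible_iff_uniformizer πB).mpr hπB
  have hCM : Function.Injective (algebraMap C M) := IsFractionRing.injective C M
  haveI : FiniteDimensional L M := finiteDimensional_of_finrank_prime hp hdeg
  set θ : M := algebraMap C M c with hθ
  have hθp : θ ^ p = algebraMap B M πB := by
    rw [hθ, ← map_pow, hc, ← IsScalarTower.algebraMap_apply]
  have hθnot : θ ∉ Set.range (algebraMap L M) := root_not_mem_range hp hBC hπirr hc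
  haveI : IsSimpleOrder (IntermediateField L M) :=
    isSimpleOrder_of_finrank_prime L M (by rw [hdeg]; exact hp)
  have htop : L⟮θ⟯ = ⊤ := by
    rcases eq_bot_or_eq_top L⟮θ⟯ with h | h
    · exfalso
      have : θ ∈ (⊥ : IntermediateField L M) := by rw [← h]; exact mem_adjoin_simple_self L θ
      exact hθnot (IntermediateField.mem_bot.mp this)
    · exact h
  have hθint : IsIntegral L θ := Algebra.IsIntegral.isIntegral θ
  have htop' : Algebra.adjoin L {θ} = ⊤ := by
    have h1 := adjoin_simple_toSubalgebra_of_isAlgebraic hθint.isAlgebraic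
    rw [htop] at h1
    exact h1.symm
  set pb : PowerBasis L M := PowerBasis.ofAdjoinEqTop hθint htop' with hpb
  have hdim : pb.dim = p := by rw [← pb.finrank, hdeg]
  have hgen : pb.gen = θ := by rw [hpb, PowerBasis.ofAdjoinEqTop_gen]
  have hE : EisVal (A := B) (K := L) (L := M) πB pb :=
    { hπ := hπB
      hval := by
        intro V _
        rw [hdim, hgen, ← map_pow, hθp] }
  have hV := dominates_valSub (C := C) (M := M) B
  rw [eq_top_iff]
  intro c' _
  have hmem : algebraMap C M c' ∈ valSub C M := ⟨c', rfl⟩
  have hrepr := (hE.mem_iff_repr_mem (valSub C M) hV (algebraMap C M c')).mp hmem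
  choose b hb using hrepr
  have hexp := hE.expand (algebraMap C M c')
  have hc' : c' = ∑ i : Fin pb.dim, algebraMap B C (b i) * c ^ (i : ℕ) := by
    apply hCM
    rw [hexp, map_sum]
    refine Finset.sum_congr rfl fun i _ => ?_
    rw [← hb i, hgen, hθ, map_mul, map_pow, ← IsScalarTower.algebraMap_apply,
      ← IsScalarTower.algebraMap_apply]
  rw [hc']
  refine Subalgebra.sum_mem _ fun i _ => ?_
  exact Subalgebra.mul_mem _ (Subalgebra.algebraMap_mem _ _)
    (Subalgebra.pow_mem _ (Algebra.subset_adjoin (Set.mem_singleton c)) _)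

end Root

end Groth.Agent.Lib.Helper18.Epp
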