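import Mathlib
import Groth.Prelude.Def_Found

/-! # Nagata domains: finiteness of the integral closure in finite extensions of any fraction field -/

set_option autoImplicit false
set_option linter.style.haveILetI false

namespace Groth.Agent.Lib.Helper18.Epp

open Polynomial

universe u

/-- For a Nagata domain `B` with fraction field `L`, the integral closure of `B` in a finite
extension `M'` of `L` is a finite `B`-module. -/
theorem finite_integralClosure_of_nagata (B L : Type u) [CommRing B] [IsDomain B] [Field L]
    [Algebra B L] [IsFractionRing B L] (hB : CAlg.IsNagata B) (M' : Type u) [Field M']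
    [Algebra B M'] [Algebra L M'] [IsScalarTower B L M'] [FiniteDimensional L M'] :
    Module.Finite B (integralClosure B M') := by
  haveI hbot : (⊥ : Ideal B).IsPrime := Ideal.isPrime_bot
  have hN2 := hB.2 (⊥ : Ideal B)
  set R := B ⧸ (⊥ : Ideal B) with hR
  have hBM' : Function.Injective (algebraMap B M') := by
    rw [IsScalarTower.algebraMap_eq B L M']
    exact (algebraMap L M').injective.comp (IsFractionRing.injective B L)
  let φ₀ : R →+* M' := Ideal.Quotient.lift ⊥ (algebraMap B M') (fun b hb => by
    rw [Ideal.mem_bot] at hb; rw [hb, map_zero])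
  letI : Algebra R M' := φ₀.toAlgebra
  haveI : IsScalarTower B R M' := IsScalarTower.of_algebraMap_eq (fun b => rfl)
  have hsurj : Function.Surjective (algebraMap B R) := Ideal.Quotient.mk_surjective
  have hφ₀inj : Function.Injective φ₀ := by
    intro x y hxy
    obtain ⟨a, rfl⟩ := hsurj x
    obtain ⟨b, rfl⟩ := hsurj y
    have : algebraMap B M' a = algebraMap B M' b := hxy
    rw [hBM' this]
  let φ : FractionRing R →+* M' := IsFractionRing.lift (K := FractionRing R) (g := φ₀) hφ₀inj
  letI : Algebra (FractionRing R) M' := φ.toAlgebra
  haveI : IsScalarTower R (FractionRing R) M' := IsScalarTower.of_algebraMap_eq (fun r => by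
    show φ₀ r = φ (algebraMap R (FractionRing R) r)
    exact (IsFractionRing.lift_algebraMap hφ₀inj r).symm)
  -- `M'` is finite over `FractionRing R`
  have hrange : ∀ l : L, ∃ k : FractionRing R, φ k = algebraMap L M' l := by
    intro l
    obtain ⟨b₁, b₂, hb₂, rfl⟩ := IsFractionRing.div_surjective (A := B) l
    refine ⟨algebraMap R (FractionRing R) (algebraMap B R b₁) /
      algebraMap R (FractionRing R) (algebraMap B R b₂), ?_⟩
    rw [map_div₀, map_div₀, IsFractionRing.lift_algebraMap, IsFractionRing.lift_algebraMap,
      ← IsScalarTower.algebraMap_apply B L M', ← IsScalarTower.algebraMap_apply B L M']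
    rfl
  haveI : FiniteDimensional (FractionRing R) M' := by
    obtain ⟨S, hS⟩ := (Module.Finite.fg_top : (⊤ : Submodule L M').FG)
    refine ⟨⟨S, ?_⟩⟩
    rw [eq_top_iff]
    intro x hxtop
    clear hxtop
    have hx : x ∈ Submodule.span L (S : Set M') := by rw [hS]; trivial
    induction hx using Submodule.span_induction with
    | mem x hx => exact Submodule.subset_span hx
    | zero => exact zero_mem _
    | add x y _ _ hx hy => exact add_mem hx hy
    | smul l x _ hx =>
      obtain ⟨k, hk⟩ := hrange l
      have : l • x = k • x := by
        rw [Algebra.smul_def, Algebra.smul_def, ← hk]; rfl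
      rw [this]
      exact Submodule.smul_mem _ k hx
  have hfin : Module.Finite R (integralClosure R M') := hN2 M' inferInstance
  -- transfer to `B`
  have hfg : (Subalgebra.toSubmodule (integralClosure R M')).FG := Module.Finite.iff_fg.mp hfin
  obtain ⟨S, hS⟩ := hfg
  haveI : Algebra.IsIntegral B R := Algebra.isIntegral_of_surjective hsurj
  have hset : ∀ x : M', x ∈ integralClosure B M' ↔ x ∈ integralClosure R M' := by
    intro x
    constructor
    · intro hx
      exact IsIntegral.tower_top hx
    · intro hx
      exact isIntegral_trans x hx
  have hgoal : (Subalgebra.toSubmodule (integralClosure B M')).FG := by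
    refine ⟨S, ?_⟩
    rw [← Submodule.restrictScalars_span B R hsurj (S : Set M'), hS]
    ext x
    exact (hset x).symm
  exact Module.Finite.iff_fg.mpr hgoal

end Groth.Agent.Lib.Helper18.Epp
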