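import Mathlib
import Groth.Prelude.Def_Found
import Groth.Agent.Lib.Helper18.Epp.N2
import Groth.Agent.Lib.Helper18.Epp.Krull

/-! # A unit which is a `p`-th power to every order is a `p`-th power upstairs (Nagata case) -/

set_option autoImplicit false
set_option linter.style.haveILetI false

namespace Groth.Agent.Lib.Helper18.Epp

open Polynomial IsLocalRing IntermediateField

universe u

variable {p : ℕ} {B L : Type u} [CommRing B] [IsDomain B] [IsDiscreteValuationRing B]
  [Field L] [Algebra B L] [IsFractionRing B L]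

theorem isIntegral_of_pow_eq {M' : Type*} [CommRing M'] [Algebra B M'] (hp : p.Prime) {x : M'}
    {b : B} (h : x ^ p = algebraMap B M' b) : IsIntegral B x := by
  refine ⟨X ^ p - C b, monic_X_pow_sub_C _ hp.ne_zero, ?_⟩
  rw [eval₂_sub, eval₂_pow, eval₂_X, eval₂_C, h, sub_self]

/-- The core of the argument, inside an extension `M'` of `L` containing `ϖ` with `ϖ ^ p = π` and
`υ` with `υ ^ p = u`: `υ` is a polynomial in `ϖ` over `B`. -/
theorem mem_adjoin_of_rep (hp : p.Prime) [CharP L p] (hB : CAlg.IsNagata B) (M' : Type u)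
    [Field M'] [Algebra B M'] [Algebra L M'] [IsScalarTower B L M'] [FiniteDimensional L M']
    (πB : B) (hπB : maximalIdeal B = Ideal.span {πB}) (u : B) (ϖ υ : M')
    (hϖ : ϖ ^ p = algebraMap B M' πB) (hυ : υ ^ p = algebraMap B M' u)
    (hrep : ∀ m : ℕ, ∃ (f : ℕ → B) (b : B),
      u = ∑ i ∈ Finset.range m, f i ^ p * πB ^ i + b * πB ^ m) :
    υ ∈ Algebra.adjoin B {ϖ} := by
  haveI : Fact p.Prime := ⟨hp⟩
  haveI : CharP M' p := charP_of_injective_algebraMap (algebraMap L M').injective p
  have hfin : Module.Finite B (integralClosure B M') := finite_integralClosure_of_nagata B L hB M'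
  have hπirr : Irreducible πB := (IsDiscreteValuationRing.irreducible_iff_uniformizer πB).mpr hπB
  have hBM' : Function.Injective (algebraMap B M') := by
    rw [IsScalarTower.algebraMap_eq B L M']
    exact (algebraMap L M').injective.comp (IsFractionRing.injective B L)
  have hπ'0 : algebraMap B M' πB ≠ 0 := fun h0 =>
    hπirr.ne_zero (hBM' (h0.trans (map_zero _).symm))
  have hϖint : IsIntegral B ϖ := isIntegral_of_pow_eq hp hϖ
  have hυint : IsIntegral B υ := isIntegral_of_pow_eq hp hυ
  have hDfg : (Subalgebra.toSubmodule (integralClosure B M')).FG := Module.Finite.iff_fg.mp hfin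
  show υ ∈ Subalgebra.toSubmodule (Algebra.adjoin B {ϖ})
  refine mem_of_forall_decomp (Subalgebra.toSubmodule (integralClosure B M'))
    (Subalgebra.toSubmodule (Algebra.adjoin B {ϖ})) hDfg υ hυint ?_
  intro q
  obtain ⟨f, b, hfb⟩ := hrep (p * q)
  obtain ⟨s, hs⟩ : ∃ s : M', s = ∑ i ∈ Finset.range (p * q), algebraMap B M' (f i) * ϖ ^ i :=
    ⟨_, rfl⟩
  have hsp : s ^ p = ∑ i ∈ Finset.range (p * q), algebraMap B M' (f i ^ p * πB ^ i) := by
    rw [hs, sum_pow_char]
    refine Finset.sum_congr rfl fun i _ => ?_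
    rw [mul_pow, ← pow_mul, mul_comm i p, pow_mul, hϖ, map_mul, map_pow, map_pow]
  have hdiff : (υ - s) ^ p = algebraMap B M' b * (algebraMap B M' πB ^ q) ^ p := by
    rw [sub_pow_char, hυ, hsp, hfb, map_add, map_sum, add_sub_cancel_left, map_mul, map_pow,
      ← pow_mul, mul_comm q p]
  obtain ⟨t, ht⟩ : ∃ t : M', t = (υ - s) / algebraMap B M' πB ^ q := ⟨_, rfl⟩
  have htp : t ^ p = algebraMap B M' b := by
    rw [ht, div_pow, hdiff, mul_div_assoc, div_self (pow_ne_zero _ (pow_ne_zero _ hπ'0)),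
      mul_one]
  have htint : IsIntegral B t := isIntegral_of_pow_eq hp htp
  have hsmem : s ∈ Algebra.adjoin B {ϖ} := by
    rw [hs]
    have hϖmem : ϖ ∈ Algebra.adjoin B {ϖ} := Algebra.subset_adjoin (Set.mem_singleton ϖ)
    refine Subalgebra.sum_mem _ fun i _ => ?_
    exact Subalgebra.mul_mem _ (Subalgebra.algebraMap_mem _ _) (Subalgebra.pow_mem _ hϖmem i)
  refine ⟨s, hsmem, t, htint, πB ^ q, ?_, ?_⟩
  · apply Ideal.pow_mem_pow
    rw [hπB]; exact Ideal.mem_span_singleton_self πB
  · rw [Algebra.smul_def, map_pow, ht, mul_div_cancel₀ _ (pow_ne_zero _ hπ'0)]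
    ring

end Groth.Agent.Lib.Helper18.Epp

namespace Groth.Agent.Lib.Helper18.Epp

open Polynomial IsLocalRing IntermediateField

universe u

variable {p : ℕ} {B L : Type u} [CommRing B] [IsDomain B] [IsDiscreteValuationRing B]
  [Field L] [Algebra B L] [IsFractionRing B L]

/-- If `u` is a `p`-th power to every order and `ϖ_C ^ p = u π` generates `M`, then `u` is a `p`-th
power in `M`. -/
theorem exists_pth_root (hp : p.Prime) [CharP L p] (hB : CAlg.IsNagata B) {M : Type u} [Field M]
    [Algebra L M] [Algebra B M] [IsScalarTower B L M] (hdeg : Module.finrank L M = p) (πB : B)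
    (hπB : maximalIdeal B = Ideal.span {πB}) (u : B) (ϖC : M)
    (hϖC : ϖC ^ p = algebraMap B M u * algebraMap B M πB) (hgenM : L⟮ϖC⟯ = ⊤)
    (hrep : ∀ m : ℕ, ∃ (f : ℕ → B) (b : B),
      u = ∑ i ∈ Finset.range m, f i ^ p * πB ^ i + b * πB ^ m) :
    ∃ υ : M, υ ^ p = algebraMap B M u := by
  by_contra hno
  push_neg at hno
  have hp1 := hp.one_lt
  have hirr : Irreducible (X ^ p - C (algebraMap B M u) : M[X]) :=
    X_pow_sub_C_irreducible_of_prime hp hno
  haveI : Fact (Irreducible (X ^ p - C (algebraMap B M u) : M[X])) := ⟨hirr⟩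
  have hne : (X ^ p - C (algebraMap B M u) : M[X]) ≠ 0 := hirr.ne_zero
  set M' := AdjoinRoot (X ^ p - C (algebraMap B M u) : M[X]) with hM'
  haveI : FiniteDimensional L M := Module.finite_of_finrank_pos (by rw [hdeg]; exact hp.pos)
  haveI : FiniteDimensional M M' := (AdjoinRoot.powerBasis hne).finite
  haveI : FiniteDimensional L M' := FiniteDimensional.trans L M M'
  have hfr : Module.finrank M M' = p := by
    rw [(AdjoinRoot.powerBasis hne).finrank, AdjoinRoot.powerBasis_dim, natDegree_X_pow_sub_C]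
  have hfr' : Module.finrank L M' = p * p := by
    rw [← Module.finrank_mul_finrank L M M', hdeg, hfr]
  set υ : M' := AdjoinRoot.root (X ^ p - C (algebraMap B M u) : M[X]) with hυdef
  have halg : ∀ b : B, algebraMap B M' b = algebraMap M M' (algebraMap B M b) := fun b =>
    IsScalarTower.algebraMap_apply B M M' b
  have hυ : υ ^ p = algebraMap B M' u := by
    have h1 := AdjoinRoot.eval₂_root (X ^ p - C (algebraMap B M u) : M[X])
    rw [eval₂_sub, eval₂_pow, eval₂_X, eval₂_C, sub_eq_zero] at h1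
    rw [halg, AdjoinRoot.algebraMap_eq]
    exact h1
  have hu0 : algebraMap B M u ≠ 0 := by
    have := hno 0
    rw [zero_pow hp.ne_zero] at this
    exact this.symm
  have hu0' : algebraMap B M' u ≠ 0 := by
    rw [halg]; exact (_root_.map_ne_zero _).mpr hu0
  have hυ0 : υ ≠ 0 := by
    intro h0
    rw [h0, zero_pow hp.ne_zero] at hυ
    exact hu0' hυ.symm
  set ϖ : M' := algebraMap M M' ϖC / υ with hϖdef
  have hϖ : ϖ ^ p = algebraMap B M' πB := by
    rw [hϖdef, div_pow, ← map_pow, hϖC, map_mul, ← halg, ← halg, hυ, mul_comm,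
      mul_div_assoc, div_self hu0', mul_one]
  have hmem := mem_adjoin_of_rep (L := L) hp hB M' πB hπB u ϖ υ hϖ hυ hrep
  have hsub : ∀ x : M', x ∈ Algebra.adjoin B {ϖ} → x ∈ L⟮ϖ⟯ := by
    intro x hx
    induction hx using Algebra.adjoin_induction with
    | mem x hx =>
      rw [Set.mem_singleton_iff] at hx
      rw [hx]; exact mem_adjoin_simple_self L ϖ
    | algebraMap b =>
      rw [IsScalarTower.algebraMap_apply B L M']
      exact IntermediateField.algebraMap_mem _ _
    | add x y _ _ hx hy => exact add_mem hx hy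
    | mul x y _ _ hx hy => exact mul_mem hx hy
  have hυF : υ ∈ L⟮ϖ⟯ := hsub υ hmem
  have hϖCF : algebraMap M M' ϖC ∈ L⟮ϖ⟯ := by
    have : algebraMap M M' ϖC = ϖ * υ := by rw [hϖdef, div_mul_cancel₀ _ hυ0]
    rw [this]
    exact mul_mem (mem_adjoin_simple_self L ϖ) hυF
  have hMF : ∀ x : M, algebraMap M M' x ∈ L⟮ϖ⟯ := by
    have hle : L⟮ϖC⟯ ≤ (L⟮ϖ⟯).comap (IsScalarTower.toAlgHom L M M') := by
      rw [adjoin_simple_le_iff]
      exact hϖCF
    rw [hgenM] at hle
    intro x
    exact hle (IntermediateField.mem_top)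
  have hall : ∀ y : M', y ∈ L⟮ϖ⟯ := by
    intro y
    induction y using AdjoinRoot.induction_on with
    | ih g =>
      rw [← AdjoinRoot.aeval_eq, aeval_eq_sum_range]
      refine sum_mem fun i _ => ?_
      rw [Algebra.smul_def]
      exact mul_mem (hMF _) (pow_mem hυF i)
  have htop : L⟮ϖ⟯ = ⊤ := eq_top_iff.mpr fun y _ => hall y
  have hϖint : IsIntegral L ϖ := Algebra.IsIntegral.isIntegral ϖ
  have h1 : Module.finrank L L⟮ϖ⟯ = p * p := by
    rw [htop, IntermediateField.finrank_top', hfr']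
  have hroot : aeval ϖ (X ^ p - C (algebraMap B L πB) : L[X]) = 0 := by
    rw [map_sub, map_pow, aeval_X, aeval_C, hϖ, ← IsScalarTower.algebraMap_apply, sub_self]
  have h2 : Module.finrank L L⟮ϖ⟯ ≤ p := by
    rw [adjoin.finrank hϖint]
    have hdvd := minpoly.dvd L ϖ hroot
    have := natDegree_le_of_dvd hdvd (monic_X_pow_sub_C _ hp.ne_zero).ne_zero
    rwa [natDegree_X_pow_sub_C] at this
  rw [h1] at h2
  nlinarith

end Groth.Agent.Lib.Helper18.Epp
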