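import Mathlib

/-! # `M ⊗[K] K₁` is a field when a generator of `K₁` has a minimal polynomial staying irreducible -/

set_option autoImplicit false
set_option linter.style.haveILetI false

namespace Groth.Agent.Lib.Helper18.Epp

open Polynomial TensorProduct

universe u

/-- If `ρ ∈ K₁` is a root of a monic `h₀ ∈ K[X]` of degree `[K₁ : K]` which stays irreducible over
`M`, then `M ⊗[K] K₁` is a field. -/
theorem isField_tensor_of_irreducible {K M K₁ : Type u} [Field K] [Field M] [Field K₁]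
    [Algebra K M] [Algebra K K₁] [FiniteDimensional K K₁] (ρ : K₁) (h₀ : K[X]) (hmon : h₀.Monic)
    (hdeg : h₀.natDegree = Module.finrank K K₁) (hroot : aeval ρ h₀ = 0)
    (hirr : Irreducible (h₀.map (algebraMap K M))) : IsField (M ⊗[K] K₁) := by
  have hfrT : Module.finrank M (M ⊗[K] K₁) = Module.finrank K K₁ := Module.finrank_baseChange
  haveI : Nontrivial (M ⊗[K] K₁) :=
    Module.nontrivial_of_finrank_pos (R := M) (by rw [hfrT]; exact Module.finrank_pos)
  obtain ⟨𝔪, h𝔪⟩ := Ideal.exists_maximal (M ⊗[K] K₁)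
  letI : Field ((M ⊗[K] K₁) ⧸ 𝔪) := Ideal.Quotient.field 𝔪
  set M₁ := (M ⊗[K] K₁) ⧸ 𝔪 with hM₁
  let φ : K₁ →ₐ[K] M₁ := (IsScalarTower.toAlgHom K (M ⊗[K] K₁) M₁).comp
    (Algebra.TensorProduct.includeRight : K₁ →ₐ[K] M ⊗[K] K₁)
  set ρ' : M₁ := φ ρ with hρ'
  have hρ'root : aeval ρ' (h₀.map (algebraMap K M)) = 0 := by
    rw [aeval_map_algebraMap, hρ', aeval_algHom_apply, hroot, map_zero]
  have hsurj : Function.Surjective (Ideal.Quotient.mkₐ M 𝔪).toLinearMap :=
    Ideal.Quotient.mkₐ_surjective M 𝔪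
  haveI : FiniteDimensional M M₁ := Module.Finite.of_surjective _ hsurj
  have hmin : h₀.map (algebraMap K M) = minpoly M ρ' :=
    minpoly.eq_of_irreducible_of_monic hirr hρ'root (hmon.map _)
  have h1 : Module.finrank K K₁ ≤ Module.finrank M M₁ := by
    have := minpoly.natDegree_le (A := M) ρ'
    rwa [← hmin, hmon.natDegree_map, hdeg] at this
  have h2 : Module.finrank M M₁ ≤ Module.finrank M (M ⊗[K] K₁) :=
    LinearMap.finrank_le_finrank_of_surjective hsurj
  have hfrM : Module.finrank M M₁ = Module.finrank K K₁ := le_antisymm (hfrT ▸ h2) h1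
  have hinj : Function.Injective (Ideal.Quotient.mkₐ M 𝔪).toLinearMap :=
    (LinearMap.injective_iff_surjective_of_finrank_eq_finrank (hfrT.trans hfrM.symm)).mpr hsurj
  have hbot : 𝔪 = ⊥ := by
    rw [eq_bot_iff]
    intro t ht
    have h0 : (Ideal.Quotient.mkₐ M 𝔪).toLinearMap t = (Ideal.Quotient.mkₐ M 𝔪).toLinearMap 0 := by
      rw [map_zero]
      exact Ideal.Quotient.eq_zero_iff_mem.mpr ht
    exact hinj h0
  rw [Ring.isField_iff_maximal_bot, ← hbot]
  exact h𝔪

end Groth.Agent.Lib.Helper18.Epp
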