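import Mathlib
import Groth.Prelude.Def_EtRam
import Groth.Prelude.Def_Found
import Groth.Agent.Lib.Helper18.Epp.Basic
import Groth.Agent.Lib.Helper18.Epp.PthRoot
import Groth.Agent.Lib.Helper18.Epp.Mono
import Groth.Agent.Lib.Helper18.Epp.K1
import Groth.Agent.Lib.Helper18.Epp.TensorField
import Groth.Agent.Lib.Helper18.Epp.EisIrr
import Groth.Agent.Lib.Helper18.Eis.WeakSol

/-! # The purely inseparable degree `p` step: trichotomy (Stacks 09F4) -/

set_option autoImplicit false
set_option linter.style.haveILetI false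

namespace Groth.Agent.Lib.Helper18.Epp

open Polynomial IsLocalRing IntermediateField TensorProduct
open Groth.Agent.Lib.Helper18.Eis

universe u

set_option maxHeartbeats 1600000 in
theorem trichotomy (p : ℕ) (hp : p.Prime) (A B C K L M : Type u)
    [CommRing A] [IsDomain A] [IsDiscreteValuationRing A] [CommRing B] [IsDomain B]
    [IsDiscreteValuationRing B] [CommRing C] [IsDomain C] [IsDiscreteValuationRing C]
    [Algebra A B] [Algebra B C] [Algebra A C] [IsScalarTower A B C]
    (hAB : Function.Injective (algebraMap A B)) (hBC : Function.Injective (algebraMap B C))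
    [IsLocalHom (algebraMap A B)] [IsLocalHom (algebraMap B C)]
    [Field K] [Field L] [Field M] [Algebra A K] [IsFractionRing A K] [Algebra B L]
    [IsFractionRing B L] [Algebra C M] [IsFractionRing C M] [Algebra K L] [Algebra L M]
    [Algebra K M] [IsScalarTower K L M] [Algebra A L] [IsScalarTower A K L] [IsScalarTower A B L]
    [Algebra B M] [IsScalarTower B L M] [IsScalarTower B C M] [Algebra A M] [IsScalarTower A K M]
    [IsScalarTower A C M]
    (π : A) (hπ : IsLocalRing.maximalIdeal A = Ideal.span {π}) (hB : CAlg.IsNagata B)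
    (hw : EtRam.IsWeaklyUnramified A B) [IsPurelyInseparable L M]
    (hdeg : Module.finrank L M = p) :
    EtRam.IsWeaklyUnramified A C ∨
      (∃ c : C, c ^ p = algebraMap A C π ∧ Algebra.adjoin B {c} = ⊤) ∨
      ∃ (K₁ : Type u) (_ : Field K₁) (_ : Algebra K K₁),
        Module.finrank K K₁ = p ∧ Algebra.IsSeparable K K₁ ∧
          EtRam.IsTotallyRamified A ((algebraMap K K₁).comp (algebraMap A K)) ∧
          IsField (L ⊗[K] K₁) ∧ IsField (M ⊗[K] K₁) ∧
          EtRam.IsWeakSolution B K L K₁ ∧ EtRam.IsWeakSolution C K M K₁ := by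
  haveI : CharP L p := charP_of_purelyInsep (M := M) hp hdeg
  haveI : FiniteDimensional L M := finiteDimensional_of_finrank_prime hp hdeg
  by_cases hnw : EtRam.IsWeaklyUnramified A C
  · exact Or.inl hnw
  right
  obtain ⟨ϖ, u, hϖirr, hϖp⟩ := exists_unit_pow (L := L) (M := M) hp hAB hBC hπ hw hdeg hnw
  have hπB : maximalIdeal B = Ideal.span {algebraMap A B π} := uniformizer_B hπ hw
  have hπBirr : Irreducible (algebraMap A B π) :=
    (IsDiscreteValuationRing.irreducible_iff_uniformizer _).mpr hπB
  have hCM : Function.Injective (algebraMap C M) := IsFractionRing.injective C M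
  have hACπ : algebraMap A C π = algebraMap B C (algebraMap A B π) :=
    IsScalarTower.algebraMap_apply A B C π
  have hABM : ∀ a : A, algebraMap B M (algebraMap A B a) = algebraMap A M a := by
    intro a
    rw [IsScalarTower.algebraMap_apply B C M, ← IsScalarTower.algebraMap_apply A B C,
      ← IsScalarTower.algebraMap_apply A C M]
  -- the uniformizer of `C` does not come from `L`
  have hϖnot : algebraMap C M ϖ ∉ Set.range (algebraMap L M) := by
    rintro ⟨x, hx⟩
    obtain ⟨β, hβ⟩ := mem_range_of_mem_range (B := B) hCM x ϖ hx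
    have hϖβ : ϖ = algebraMap B C β := by
      apply hCM
      rw [← hx, ← hβ, ← IsScalarTower.algebraMap_apply, ← IsScalarTower.algebraMap_apply]
    have hβp : β ^ p = (u : B) * algebraMap A B π := by
      apply hBC
      rw [map_pow, ← hϖβ, hϖp, map_mul, hACπ]
    have hirr2 : Irreducible (β ^ p) := by
      rw [hβp]
      exact (irreducible_units_mul u).mpr hπBirr
    exact not_irreducible_pow hp.one_lt.ne' hirr2
  haveI : IsSimpleOrder (IntermediateField L M) :=
    isSimpleOrder_of_finrank_prime L M (by rw [hdeg]; exact hp)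
  have hgenM : L⟮algebraMap C M ϖ⟯ = ⊤ := by
    rcases eq_bot_or_eq_top L⟮algebraMap C M ϖ⟯ with h | h
    · exfalso
      have : algebraMap C M ϖ ∈ (⊥ : IntermediateField L M) := by
        rw [← h]; exact mem_adjoin_simple_self L _
      exact hϖnot (IntermediateField.mem_bot.mp this)
    · exact h
  rcases expansion_dichotomy p (algebraMap A B π) (u : B) hπB with ⟨m, f, b, hub, hb⟩ | hrep
  · -- the third alternative
    right
    obtain ⟨K₁, iF, iKK₁, iAK₁, iT, hK₁deg, hK₁sep, hK₁tr, ρ, b₁, b₁', hρint, hb₁int, -, hρeq, -,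
      hρroot⟩ := exists_ext_of_two_le_root (K := K) π hπ (n := m + 2) (by omega) hp.two_le
    haveI : FiniteDimensional K K₁ :=
      Module.finite_of_finrank_pos (by rw [hK₁deg]; exact hp.pos)
    have hcomp : (algebraMap K K₁).comp (algebraMap A K) = algebraMap A K₁ :=
      (IsScalarTower.algebraMap_eq A K K₁).symm
    obtain ⟨hfL, hwsB⟩ := weakSolution_of_totallyRamified A B K L hw K₁ hK₁tr
    refine ⟨K₁, iF, iKK₁, hK₁deg, hK₁sep, by rw [hcomp]; exact hK₁tr, hfL, ?_, hwsB, ?_⟩
    · have hmonA : (eisPoly π (m + 2) p).Monic := eisPoly_monic π (m + 2) hp.two_le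
      refine isField_tensor_of_irreducible ρ ((eisPoly π (m + 2) p).map (algebraMap A K))
        (hmonA.map _) ?_ ?_ ?_
      · rw [hmonA.natDegree_map, eisPoly_natDegree π (m + 2) hp.two_le, hK₁deg]
      · rw [aeval_map_algebraMap]; exact hρroot
      · have hAM : algebraMap A M = (algebraMap B M).comp (algebraMap A B) := by
          ext a; exact (hABM a).symm
        have hmapB : (eisPoly π (m + 2) p).map (algebraMap A B) =
            eisPoly (algebraMap A B π) (m + 2) p := by
          rw [eisPoly_map]; rfl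
        rw [Polynomial.map_map, ← IsScalarTower.algebraMap_eq A K M, hAM, ← Polynomial.map_map,
          hmapB]
        exact eisPoly_map_irreducible (L := L) _ hπB (by omega) hp.two_le
    · intro M₁ _ _ _ _ _ _ hgen W hW
      obtain ⟨h1, h2, h3⟩ := local_exists_eq_mul hp π hπ hw hdeg ϖ (u : B) hϖp hgenM m f b hub hb
        hK₁deg ρ b₁ hρint hb₁int hρeq hgen W hW
      exact weaklyUnramified_comap_of_exists_eq_mul (algebraMap K₁ M₁) W ρ h1 h2 h3
  · -- the middle alternative
    left
    have hϖM : (algebraMap C M ϖ) ^ p =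
        algebraMap B M (u : B) * algebraMap B M (algebraMap A B π) := by
      rw [← map_pow, hϖp, hACπ, ← map_mul, ← IsScalarTower.algebraMap_apply B C M, map_mul]
    obtain ⟨υ, hυ⟩ := exists_pth_root hp hB hdeg (algebraMap A B π) hπB (u : B)
      (algebraMap C M ϖ) hϖM hgenM hrep
    have hυint : IsIntegral C υ := by
      refine ⟨X ^ p - Polynomial.C (algebraMap B C (u : B)), monic_X_pow_sub_C _ hp.ne_zero, ?_⟩
      rw [eval₂_sub, eval₂_X_pow, eval₂_C, hυ, ← IsScalarTower.algebraMap_apply, sub_self]
    obtain ⟨υC, hυC⟩ := (IsIntegrallyClosed.isIntegral_iff (R := C) (K := M)).mp hυint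
    have hυCp : υC ^ p = algebraMap B C (u : B) := by
      apply hCM
      rw [map_pow, hυC, hυ, ← IsScalarTower.algebraMap_apply]
    have hυCunit : IsUnit υC := by
      have : IsUnit (υC ^ p) := by rw [hυCp]; exact u.isUnit.map _
      exact (isUnit_pow_iff hp.ne_zero).mp this
    obtain ⟨w, hwυ⟩ := hυCunit
    have h1 : ((w⁻¹ : Cˣ) : C) ^ p * algebraMap B C (u : B) = 1 := by
      rw [← hυCp, ← hwυ, ← mul_pow, Units.inv_mul, one_pow]
    have hcp : (ϖ * ((w⁻¹ : Cˣ) : C)) ^ p = algebraMap A C π := by
      calc (ϖ * ((w⁻¹ : Cˣ) : C)) ^ p = ϖ ^ p * ((w⁻¹ : Cˣ) : C) ^ p := mul_pow _ _ _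
        _ = algebraMap A C π * (((w⁻¹ : Cˣ) : C) ^ p * algebraMap B C (u : B)) := by
          rw [hϖp]; ring
        _ = algebraMap A C π := by rw [h1, mul_one]
    refine ⟨ϖ * ((w⁻¹ : Cˣ) : C), hcp, ?_⟩
    exact adjoin_eq_top_of_root (L := L) (M := M) hp hBC hdeg hπB (by rw [← hACπ]; exact hcp)

end Groth.Agent.Lib.Helper18.Epp
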